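import Mathlib
import Cfsg.Agent.Classical.Symp.Card
import Cfsg.Agent.Known.SUMinDegree.Chars

/-! Root subgroups, short root elements and characters for symplectic groups in odd characteristic. -/

set_option autoImplicit false
set_option linter.unusedSectionVars false
set_option linter.style.haveILetI false

open Cfsg.Lib.Classical Cfsg.Lib.RepEigen

namespace Cfsg.Lib.SpMinDeg

universe u v

variable {F : Type u} [Field F] {V : Type v} [AddCommGroup V] [Module F V] {B : LinearMap.BilinForm F V}

/-- Elements fixing the orthogonal of `W` pointwise. -/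
def Fixes (W : Submodule F V) (g : BilinIsom B) : Prop :=
  ∀ x, (∀ w ∈ W, B x w = 0) → (g : V ≃ₗ[F] V) x = x

/-- `W` is non-degenerate. -/
def Nd (B : LinearMap.BilinForm F V) (W : Submodule F V) : Prop :=
  ∀ x ∈ W, (∀ y ∈ W, B x y = 0) → x = 0

theorem Fixes.mul {W : Submodule F V} {g h : BilinIsom B} (hg : Fixes W g) (hh : Fixes W h) :
    Fixes W (g * h) := fun x hx => by rw [BilinIsom.mul_apply', hh x hx, hg x hx]

theorem Fixes.one {W : Submodule F V} : Fixes W (1 : BilinIsom B) := fun _ _ => rfl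

theorem Fixes.inv {W : Submodule F V} {g : BilinIsom B} (hg : Fixes W g) : Fixes W g⁻¹ := fun x hx => by
  conv_lhs => rw [← hg x hx]
  exact BilinIsom.inv_apply_self g x

theorem Fixes.map_mem [FiniteDimensional F V] (hA : B.IsAlt) (hB : B.Nondegenerate) {W : Submodule F V}
    {g : BilinIsom B} (hg : Fixes W g) {w : V} (hw : w ∈ W) : (g : V ≃ₗ[F] V) w ∈ W := by
  rw [← LinearMap.BilinForm.orthogonal_orthogonal hB hA.isRefl W]
  intro x hx
  change B x _ = 0
  have hx' : ∀ y ∈ W, B x y = 0 := fun y hy => hA.isRefl _ _ (hx y hy)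
  rw [← hg x hx', BilinIsom.map_form]
  exact hx' w hw

theorem swap (hA : B.IsAlt) (x y : V) : B x y = -B y x := by rw [hA.neg_eq]

/-- The short root element `x ↦ x + l (B(x,w) v + B(x,v) w)`. -/
def srt (hA : B.IsAlt) {v w : V} (h : B v w = 0) (l : F) : BilinIsom B :=
  have h' : B w v = 0 := by rw [swap hA, h, neg_zero]
  let f : F → V →ₗ[F] V := fun l => LinearMap.id + l • ((B.flip w).smulRight v + (B.flip v).smulRight w)
  have happ : ∀ l x, f l x = x + l • (B x w • v + B x v • w) := fun l x => by simp [f]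
  have hcomp : ∀ l, (f l).comp (f (-l)) = LinearMap.id := fun l => LinearMap.ext fun x => by
    simp only [LinearMap.comp_apply, happ, map_add, map_smul, LinearMap.add_apply, LinearMap.smul_apply,
      hA v, hA w, h, h', smul_eq_mul, mul_zero, add_zero, LinearMap.id_apply]
    module
  ⟨LinearEquiv.ofLinearMap (f l) (f (-l)) (hcomp l) (by simpa using hcomp (-l)),
  fun x y => by
    change B (f l x) (f l y) = B x y
    rw [happ, happ]
    simp only [map_add, map_smul, LinearMap.add_apply, LinearMap.smul_apply, smul_eq_mul, hA v, hA w, h, h',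
      swap hA v y, swap hA w y]
    ring⟩

theorem srt_apply (hA : B.IsAlt) {v w : V} (h : B v w = 0) (l : F) (x : V) :
    ((srt hA h l : BilinIsom B) : V ≃ₗ[F] V) x = x + l • (B x w • v + B x v • w) := by
  simp [srt]

theorem srt_fixes (hA : B.IsAlt) {W : Submodule F V} {v w : V} (hv : v ∈ W) (hw : w ∈ W) (h : B v w = 0)
    (l : F) : Fixes W (srt hA h l) := fun x hx => by
  rw [srt_apply, hx v hv, hx w hw, zero_smul, zero_smul, add_zero, smul_zero, add_zero]

theorem sympT_fixes (hA : B.IsAlt) {W : Submodule F V} {v : V} (hv : v ∈ W) (c : F) :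
    Fixes W (sympT hA v c) := fun x hx => by rw [sympT_apply, hx v hv, mul_zero, zero_smul, add_zero]

theorem srt_centre (hA : B.IsAlt) {v w : V} (h : B v w = 0) (l : F) :
    ((srt hA h l : BilinIsom B) : V ≃ₗ[F] V) v = v := by
  rw [srt_apply, h, hA v, zero_smul, zero_smul, add_zero, smul_zero, add_zero]

theorem root_commute (hA : B.IsAlt) {g : BilinIsom B} {v : V} (h : (g : V ≃ₗ[F] V) v = v) (c : F) :
    Commute g (sympT hA v c) := by
  have := sympT_conj hA g v c
  rw [h] at this
  exact mul_inv_eq_iff_eq_mul.mp this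

theorem srt_comm (hA : B.IsAlt) {v a b : V} (ha : B v a = 0) (hb : B v b = 0) :
    srt hA ha 1 * srt hA hb 1 = srt hA hb 1 * srt hA ha 1 * sympT hA v (-(2 * B a b)) :=
  BilinIsom.ext' fun x => by
    simp only [BilinIsom.mul_apply', srt_apply, sympT_apply, map_add, map_smul, LinearMap.add_apply,
      LinearMap.smul_apply, smul_eq_mul, hA v, ha, hb, swap hA a v, swap hA b v, swap hA b a, hA a, hA b]
    module

/-- The transvection of `a v + b w`. -/
theorem sympT_split (hA : B.IsAlt) {v w : V} (h : B v w = 0) (a b c : F) :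
    sympT hA (a • v + b • w) c = sympT hA v (c * a ^ 2) * sympT hA w (c * b ^ 2) * srt hA h (c * a * b) :=
  BilinIsom.ext' fun x => by
    simp only [BilinIsom.mul_apply', srt_apply, sympT_apply, map_add, map_smul, LinearMap.add_apply,
      LinearMap.smul_apply, smul_eq_mul, hA v, hA w, h, swap hA w v]
    module

/-- A torus element of a hyperbolic pair. -/
theorem exists_scale_pair [FiniteDimensional F V] (hA : B.IsAlt) {v u : V} (hvu : B v u = 1) {a : F}
    (ha : a ≠ 0) :
    ∃ g : BilinIsom B, (g : V ≃ₗ[F] V) v = a • v ∧ ∀ x, B x v = 0 → B x u = 0 → (g : V ≃ₗ[F] V) x = x := by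
  have huv : B u v = -1 := by rw [swap hA, hvu]
  let f : F → V →ₗ[F] V := fun a =>
    LinearMap.id + ((a - 1) • B.flip u).smulRight v + (-(a⁻¹ - 1) • B.flip v).smulRight u
  have happ : ∀ a x, f a x = x + ((a - 1) * B x u) • v + (-(a⁻¹ - 1) * B x v) • u := fun a x => by simp [f]
  have hcomp : ∀ a : F, a ≠ 0 → (f a).comp (f a⁻¹) = LinearMap.id := fun a ha => LinearMap.ext fun x => by
    simp only [LinearMap.comp_apply, happ, map_add, map_smul, LinearMap.add_apply, LinearMap.smul_apply,
      smul_eq_mul, hA v, hA u, hvu, huv, LinearMap.id_apply, inv_inv]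
    have e1 : (a - 1) * B x u + (a - 1) * (a⁻¹ - 1) * B x u + (a⁻¹ - 1) * B x u = 0 := by field_simp; ring
    have e2 : -(a⁻¹ - 1) * B x v + (a⁻¹ - 1) * -(a - 1) * B x v + -(a - 1) * B x v = 0 := by
      field_simp; ring
    linear_combination (norm := module) e1 • v + e2 • u
  refine ⟨⟨LinearEquiv.ofLinearMap (f a) (f a⁻¹) (hcomp a ha)
    (by simpa using hcomp a⁻¹ (inv_ne_zero ha)), fun x y => ?_⟩, ?_, fun x h1 h2 => ?_⟩
  · change B (f a x) (f a y) = B x y
    rw [happ, happ]
    simp only [map_add, map_smul, LinearMap.add_apply, LinearMap.smul_apply, smul_eq_mul, hA v, hA u, hvu,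
      huv, swap hA v y, swap hA u y]
    field_simp
    ring
  · change f a v = _
    rw [happ, hvu, hA v]; module
  · change f a x = _
    rw [happ, h1, h2]; module

/-- Every character of a finite field is `x ↦ ψ (t x)`, for `ψ` non-trivial. -/
theorem exists_mulShift [Finite F] {ψ : AddChar F ℂ} (hψ : ψ ≠ 1) (χ : AddChar F ℂ) :
    ∃ t : F, ∀ x, χ x = ψ (t * x) := by
  classical
  haveI := Fintype.ofFinite F
  obtain ⟨t, ht⟩ := ((Fintype.bijective_iff_injective_and_card _).mpr
    ⟨AddChar.to_mulShift_inj_of_isPrimitive (AddChar.IsPrimitive.of_ne_one hψ), AddChar.card_eq.symm⟩).2 χ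
  exact ⟨t, fun x => by rw [← ht, AddChar.mulShift_apply]⟩

theorem exists_ne_one (F : Type u) [Field F] [Finite F] : ∃ ψ : AddChar F ℂ, ψ ≠ 1 := by
  classical
  haveI := Fintype.ofFinite F
  by_contra h
  push Not at h
  have h1 : Fintype.card (AddChar F ℂ) ≤ 1 := Fintype.card_le_one_iff.mpr fun a b => (h a).trans (h b).symm
  rw [AddChar.card_eq] at h1
  exact absurd h1 (not_le.mpr Fintype.one_lt_card)

end Cfsg.Lib.SpMinDeg
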