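import Mathlib
import Cfsg.Agent.Known.SpMinDegree.Basic

/-! The lower bound `(q ^ n - 1) / 2` for symplectic groups in odd characteristic. -/

set_option autoImplicit false
set_option linter.unusedSectionVars false
set_option linter.style.haveILetI false

open Cfsg.Lib.Classical Cfsg.Lib.RepEigen

namespace Cfsg.Lib.SpMinDeg

universe u v w

variable {F : Type u} [Field F] {V : Type v} [AddCommGroup V] [Module F V] [Finite F] [FiniteDimensional F V]
  {B : LinearMap.BilinForm F V} (hA : B.IsAlt) (hB : B.Nondegenerate)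
  {M : Type w} [AddCommGroup M] [Module ℂ M] [FiniteDimensional ℂ M]
  (φ : BilinIsom B →* Module.End ℂ M)

/-- The invariance carried through the induction. -/
def InvX (W : Submodule F V) (X : Submodule ℂ M) : Prop :=
  ∀ g, Fixes W g → ∀ x ∈ X, φ g x ∈ X

/-- The fixed points of a root subgroup inside `X`. -/
noncomputable def fix₀ (v : V) (X : Submodule ℂ M) : Submodule ℂ M := X ⊓ eig φ (sympT hA v) 1

/-- No non-zero vector is fixed by all root subgroups. -/
def NoFix (W : Submodule F V) (X : Submodule ℂ M) : Prop :=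
  ∀ x ∈ X, (∀ v ∈ W, ∀ c, φ (sympT hA v c) x = x) → x = 0

variable {hA φ} {W : Submodule F V} {X : Submodule ℂ M}

theorem mem_fix₀ {v : V} {x : M} : x ∈ fix₀ hA φ v X ↔ x ∈ X ∧ ∀ c, φ (sympT hA v c) x = x := by
  simp [fix₀, mem_eig]

theorem phi_inv_apply (g : BilinIsom B) (x : M) : φ g⁻¹ (φ g x) = x := by
  rw [← Module.End.mul_apply, ← map_mul, inv_mul_cancel, map_one, Module.End.one_apply]

theorem phi_conj_apply (g h : BilinIsom B) (x : M) : φ (g * h * g⁻¹) (φ g x) = φ g (φ h x) := by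
  rw [map_mul, map_mul, Module.End.mul_apply, Module.End.mul_apply, phi_inv_apply]

include hB in
theorem exists_noFix (hI : InvX φ W X) {v : V} (hvW : v ∈ W) {c : F} {x : M} (hx : x ∈ X)
    (hmove : φ (sympT hA v c) x ≠ x) : ∃ X' ≤ X, X' ≠ ⊥ ∧ InvX φ W X' ∧ NoFix hA φ W X' := by
  classical
  haveI : Finite V := Module.finite_of_finite F
  haveI : Finite (V ≃ₗ[F] V) := Finite.of_injective _ DFunLike.coe_injective
  let S : Set (BilinIsom B) := {t | ∃ v ∈ W, ∃ c, t = sympT hA v c}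
  let N := Subgroup.closure S
  haveI := Fintype.ofFinite N
  let Y : Submodule ℂ M := Submodule.span ℂ {z | ∃ t ∈ S, ∃ x ∈ X, z = φ t x - x}
  have hY : Y ≤ X := Submodule.span_le.mpr (by
    rintro z ⟨t, ⟨v, hvW, c, rfl⟩, x, hx, rfl⟩
    exact X.sub_mem (hI _ (sympT_fixes hA hvW c) x hx) hx)
  refine ⟨Y, hY, fun h => hmove ?_, ?_, ?_⟩
  · have : φ (sympT hA v c) x - x ∈ Y := Submodule.subset_span ⟨_, ⟨v, hvW, c, rfl⟩, x, hx, rfl⟩
    rwa [h, Submodule.mem_bot, sub_eq_zero] at this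
  · intro g hg z hz
    refine (Submodule.span_le.mpr ?_ : Y ≤ Y.comap (φ g)) hz
    rintro z ⟨t, ⟨v, hvW, c, rfl⟩, x, hx, rfl⟩
    refine Submodule.subset_span ⟨sympT hA ((g : V ≃ₗ[F] V) v) c, ⟨_, hg.map_mem hA hB hvW, c, rfl⟩,
      φ g x, hI g hg x hx, ?_⟩
    rw [← sympT_conj, phi_conj_apply, map_sub]
  · intro z hz hfix
    let e : Module.End ℂ M := ∑ n : N, φ n
    have he : e z = 0 := by
      refine (Submodule.span_le.mpr ?_ : Y ≤ LinearMap.ker e) hz
      rintro _ ⟨t, ht, x, -, rfl⟩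
      rw [SetLike.mem_coe, LinearMap.mem_ker, map_sub, sub_eq_zero]
      simp only [e, LinearMap.sum_apply]
      refine Fintype.sum_equiv (Equiv.mulRight (⟨t, Subgroup.subset_closure ht⟩ : N)) _ _ fun n => ?_
      rw [Equiv.coe_mulRight, Subgroup.coe_mul, map_mul, Module.End.mul_apply]
    have hN : ∀ n ∈ N, φ n z = z := by
      intro n hn
      induction hn using Subgroup.closure_induction with
      | mem t ht => obtain ⟨v, hvW, c, rfl⟩ := ht; exact hfix v hvW c
      | one => rw [map_one, Module.End.one_apply]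
      | mul a b _ _ ha hb => rw [map_mul, Module.End.mul_apply, hb, ha]
      | inv a _ ha => conv_lhs => rw [← ha]
                      exact phi_inv_apply a z
    simp only [e, LinearMap.sum_apply, fun n : N => hN n n.2, Finset.sum_const, Finset.card_univ,
      ← Nat.cast_smul_eq_nsmul ℂ] at he
    exact (smul_eq_zero.mp he).resolve_left (Nat.cast_ne_zero.mpr Fintype.card_ne_zero)

/-- Eigenvectors move along isometries. -/
theorem map_eig (hI : InvX φ W X) {g : BilinIsom B} (hg : Fixes W g) {v : V} {χ : AddChar F ℂ} {x : M}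
    (hx : x ∈ X ⊓ eig φ (sympT hA v) χ) :
    φ g x ∈ X ⊓ eig φ (sympT hA ((g : V ≃ₗ[F] V) v)) χ :=
  ⟨hI g hg x hx.1, (mem_eig φ).mpr fun c => by
    rw [← sympT_conj, phi_conj_apply, (mem_eig φ).mp hx.2 c, map_smul]⟩

include hA in
/-- The stabiliser of `W` is transitive on non-zero vectors of `W`. -/
theorem exists_fixes_map (hW : Nd B W) {v r : V} (hv : v ∈ W) (hr : r ∈ W) (hv0 : v ≠ 0) (hr0 : r ≠ 0) :
    ∃ g : BilinIsom B, Fixes W g ∧ (g : V ≃ₗ[F] V) v = r := by
  have step : ∀ a b, a ∈ W → b ∈ W → B a b ≠ 0 → ∃ g : BilinIsom B, Fixes W g ∧ (g : V ≃ₗ[F] V) a = b :=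
    fun a b ha hb hne => ⟨sympT hA (b - a) (B a b)⁻¹, sympT_fixes hA (W.sub_mem hb ha) _, by
      rw [sympT_apply, map_sub, hA a, sub_zero, inv_mul_cancel₀ hne, one_smul, add_sub_cancel]⟩
  have nz : ∀ a ∈ W, a ≠ 0 → ∃ d ∈ W, B a d ≠ 0 := fun a ha ha0 => by
    by_contra h
    push Not at h
    exact ha0 (hW a ha h)
  obtain ⟨d, hd, h1, h2⟩ := exists_mem_ne_zero_pair (f := B v) (g := B r) (nz v hv hv0) (nz r hr hr0)
  obtain ⟨g₁, hg₁, e₁⟩ := step v d hv hd h1
  obtain ⟨g₂, hg₂, e₂⟩ := step d r hd hr (by rw [swap hA]; exact neg_ne_zero.mpr h2)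
  exact ⟨g₂ * g₁, hg₂.mul hg₁, by rw [BilinIsom.mul_apply', e₁, e₂]⟩

theorem root_moves (hI : InvX φ W X) (hW : Nd B W) (hne : X ≠ ⊥) (hnf : NoFix hA φ W X) {v : V}
    (hv : v ∈ W) (hv0 : v ≠ 0) : ∃ c, ∃ x ∈ X, φ (sympT hA v c) x ≠ x := by
  by_contra hc
  push Not at hc
  obtain ⟨x₀, hx₀, hx₀0⟩ := Submodule.exists_mem_ne_zero_of_ne_bot hne
  refine hx₀0 (hnf x₀ hx₀ fun r hr c => ?_)
  rcases eq_or_ne r 0 with rfl | hr0
  · rw [sympT_zero_vec, map_one, Module.End.one_apply]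
  obtain ⟨g, hg, rfl⟩ := exists_fixes_map (hA := hA) hW hv hr hv0 hr0
  obtain ⟨y, hy, rfl⟩ : ∃ y ∈ X, φ g y = x₀ := ⟨φ g⁻¹ x₀, hI _ hg.inv x₀ hx₀, by
    simpa using phi_inv_apply (φ := φ) g⁻¹ x₀⟩
  rw [← sympT_conj, phi_conj_apply, hc c y hy]

/-- A hyperbolic partner inside `W`. -/
theorem exists_partner (hW : Nd B W) {v : V} (hv : v ∈ W) (hv0 : v ≠ 0) : ∃ u ∈ W, B v u = 1 := by
  by_contra h
  push Not at h
  refine hv0 (hW v hv fun y hy => ?_)
  by_contra h1
  exact h ((B v y)⁻¹ • y) (W.smul_mem _ hy) (by rw [map_smul, smul_eq_mul, inv_mul_cancel₀ h1])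

include hA in
theorem orth_inter_pair (hW : Nd B W) {v u : V} (hv : v ∈ W) (hu : u ∈ W) (hvu : B v u = 1) :
    ∃ W' : Submodule F V, (∀ x, x ∈ W' ↔ x ∈ W ∧ B x v = 0 ∧ B x u = 0) ∧ Nd B W' ∧
      Module.finrank F W' + 2 = Module.finrank F W := by
  have huv : B u v = -1 := by rw [swap hA, hvu]
  refine ⟨W ⊓ (LinearMap.ker (B.flip v) ⊓ LinearMap.ker (B.flip u)), fun x => by simp, ?_, ?_⟩
  · intro x hx hxo
    obtain ⟨hxW, hxv, hxu⟩ : x ∈ W ∧ B x v = 0 ∧ B x u = 0 := by simpa using hx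
    refine hW x hxW fun y hy => ?_
    have hy' : y - (-(B y u) • (-v)) - (B y v • (-u)) ∈ W ⊓ (LinearMap.ker (B.flip v) ⊓ LinearMap.ker (B.flip u)) := by
      simp [hA v, hA u, hvu, huv]
      exact W.add_mem (W.sub_mem hy (W.smul_mem _ hv)) (W.smul_mem _ hu)
    have := hxo _ hy'
    simpa [hxv, hxu] using this
  · let L : W →ₗ[F] F × F := ((B.flip v).prod (B.flip u)).comp W.subtype
    have hker : (LinearMap.ker L).map W.subtype = W ⊓ (LinearMap.ker (B.flip v) ⊓ LinearMap.ker (B.flip u)) := by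
      ext x; simp [L, Submodule.mem_map]; tauto
    have hsurj : LinearMap.range L = ⊤ := by
      rw [LinearMap.range_eq_top]
      rintro ⟨a, b⟩
      exact ⟨⟨b • v - a • u, W.sub_mem (W.smul_mem _ hv) (W.smul_mem _ hu)⟩, by
        simp [L, hA v, hA u, hvu, huv]⟩
    have h := L.finrank_range_add_finrank_ker
    rw [hsurj, finrank_top, Module.finrank_prod, Module.finrank_self] at h
    rw [← hker, Submodule.finrank_map_subtype_eq]
    omega

/-- The multiplicity of a non-trivial character is at least `q ^ (n - 1)`. -/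
theorem heis_bound (h2 : (2 : F) ≠ 0) (hI : InvX φ W X) (hW : Nd B W) {v u : V} (hv : v ∈ W) (hu : u ∈ W)
    (hvu : B v u = 1) {n : ℕ} (hn : Module.finrank F W = 2 * n) {χ : AddChar F ℂ} (hχ : χ ≠ 1)
    (hne : X ⊓ eig φ (sympT hA v) χ ≠ ⊥) :
    Nat.card F ^ (n - 1) ≤ Module.finrank ℂ ↥(X ⊓ eig φ (sympT hA v) χ) := by
  classical
  haveI : Finite V := Module.finite_of_finite F
  obtain ⟨W', hmem, hW', hd⟩ := orth_inter_pair (hA := hA) hW hv hu hvu
  haveI := Fintype.ofFinite W'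
  set Y := X ⊓ eig φ (sympT hA v) χ with hY
  haveI : Nontrivial Y := Submodule.nontrivial_iff_ne_bot.mpr hne
  let C : Subgroup (BilinIsom B) :=
    { carrier := {g | Fixes W g ∧ (g : V ≃ₗ[F] V) v = v}
      one_mem' := ⟨Fixes.one, rfl⟩
      mul_mem' := fun {a b} ha hb => ⟨ha.1.mul hb.1, by rw [BilinIsom.mul_apply', hb.2, ha.2]⟩
      inv_mem' := fun {a} ha => ⟨ha.1.inv, by
        conv_lhs => rw [← ha.2]
        exact BilinIsom.inv_apply_self a v⟩ }
  have hCY : ∀ g : C, ∀ x ∈ Y, φ (g : BilinIsom B) x ∈ Y := fun g x hx => by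
    have := map_eig hI g.2.1 hx
    rwa [g.2.2] at this
  let ψ : C →* Module.End ℂ Y :=
    { toFun := fun g => (φ (g : BilinIsom B)).restrict (hCY g)
      map_one' := LinearMap.ext fun x => Subtype.ext (by simp)
      map_mul' := fun a b => LinearMap.ext fun x => Subtype.ext (by simp) }
  have hw : ∀ w : W', B v (w : V) = 0 := fun w => by rw [swap hA, ((hmem _).mp w.2).2.1, neg_zero]
  let S : W' → C := fun w =>
    ⟨srt hA (hw w) 1, srt_fixes hA hv ((hmem _).mp w.2).1 _ _, srt_centre hA _ _⟩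
  have hcard := card_le_sq ψ S fun i j hij => by
    obtain ⟨c, hc⟩ := DFunLike.ne_iff.mp hχ
    have hd0 : ((i : V) - j) ≠ 0 := sub_ne_zero.mpr fun e => hij (Subtype.ext e)
    obtain ⟨y, hy, hy1⟩ := exists_partner hW' (W'.sub_mem i.2 j.2) hd0
    set y' : W' := ⟨(c / 2) • y, W'.smul_mem _ hy⟩ with hy'
    have hrel : ∀ w : W', (srt hA (hw y') 1) * srt hA (hw w) 1 =
        srt hA (hw w) 1 * srt hA (hw y') 1 * sympT hA v (-(2 * B (y' : V) w)) := fun w => srt_comm hA _ _
    have e : sympT hA v (-(2 * B (y' : V) i)) = sympT hA v (-(2 * B (y' : V) j)) * sympT hA v c := by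
      rw [← sympT_add]
      congr 1
      have : B (y' : V) ((i : V) - j) = -(c / 2) := by
        rw [hy', map_smul, LinearMap.smul_apply, swap hA, hy1, smul_eq_mul, mul_neg, mul_one]
      rw [map_sub] at this
      have h22 : 2 * (c / 2) = c := mul_div_cancel₀ c h2
      linear_combination (-2 : F) * this + h22
    refine ⟨S y', ⟨sympT hA v c, sympT_fixes hA hv c, by
      rw [sympT_apply, hA v, mul_zero, zero_smul, add_zero]⟩, Subtype.ext ?_, χ c, hc, ?_⟩
    · change srt hA (hw y') 1 * ((srt hA (hw j) 1)⁻¹ * srt hA (hw i) 1) =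
        (srt hA (hw j) 1)⁻¹ * srt hA (hw i) 1 * srt hA (hw y') 1 * sympT hA v c
      set P := srt hA (hw y') 1
      set A := srt hA (hw i) 1
      set Bj := srt hA (hw j) 1
      set Z := sympT hA v (-(2 * B (y' : V) j))
      have hZA : Commute A Z := root_commute hA (srt_centre hA _ _) _
      have hZB : Commute Bj Z := root_commute hA (srt_centre hA _ _) _
      have hcZ : Commute Z (sympT hA v c) := root_commute hA (by
        rw [sympT_apply, hA v, mul_zero, zero_smul, add_zero]) c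
      have h2' : P * Bj⁻¹ = Bj⁻¹ * P * Z⁻¹ := by
        rw [eq_mul_inv_iff_mul_eq, mul_assoc, hZB.inv_left.eq, ← mul_assoc, mul_inv_eq_iff_eq_mul, mul_assoc,
          eq_inv_mul_iff_mul_eq, hrel, ← mul_assoc]
      rw [← mul_assoc, h2', mul_assoc _ _ A, ← hZA.inv_right.eq, mul_assoc, ← mul_assoc P, hrel, e]
      simp only [mul_assoc]
      congr 3
      rw [← mul_assoc, hcZ.eq, mul_inv_cancel_right]
    · exact LinearMap.ext fun x => Subtype.ext ((mem_eig φ).mp x.2.2 c)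
  have hq : Fintype.card W' = (Nat.card F ^ (n - 1)) ^ 2 := by
    rw [← Nat.card_eq_fintype_card, Module.natCard_eq_pow_finrank (K := F), ← pow_mul]
    congr 1
    omega
  rw [hq] at hcard
  exact (Nat.pow_le_pow_iff_left two_ne_zero).mp hcard

/-- Contributions of a set of non-trivial characters. -/
theorem sum_bound (h2 : (2 : F) ≠ 0) (hI : InvX φ W X) (hW : Nd B W) {v u : V} (hv : v ∈ W) (hu : u ∈ W)
    (hvu : B v u = 1) {n : ℕ} (hn : Module.finrank F W = 2 * n) (T : Finset (AddChar F ℂ))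
    (hT : ∀ χ ∈ T, χ ≠ 1 ∧ X ⊓ eig φ (sympT hA v) χ ≠ ⊥) :
    T.card * Nat.card F ^ (n - 1) + Module.finrank ℂ (fix₀ hA φ v X) ≤ Module.finrank ℂ X := by
  classical
  haveI := Fintype.ofFinite F
  refine le_trans ?_ (sum_finrank_eig_le φ (fun a b => sympT_add hA v a b) X)
  rw [← Finset.sum_erase_add _ _ (Finset.mem_univ (1 : AddChar F ℂ))]
  refine add_le_add (le_trans ?_ (Finset.sum_le_sum_of_subset
    (fun χ hχ => Finset.mem_erase.mpr ⟨(hT χ hχ).1, Finset.mem_univ _⟩))) le_rfl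
  rw [← smul_eq_mul]
  exact Finset.card_nsmul_le_sum _ _ _ fun χ hχ => heis_bound h2 hI hW hv hu hvu hn (hT χ hχ).1 (hT χ hχ).2

theorem eig_sq (hI : InvX φ W X) {v u : V} (hv : v ∈ W) (hu : u ∈ W) (hvu : B v u = 1) {a : F} (ha : a ≠ 0)
    {χ : AddChar F ℂ} (hne : X ⊓ eig φ (sympT hA v) χ ≠ ⊥) :
    X ⊓ eig φ (sympT hA v) (χ.mulShift (a ^ 2)) ≠ ⊥ := by
  obtain ⟨g, hgv, hgo⟩ := exists_scale_pair hA hvu (inv_ne_zero ha)
  obtain ⟨x, hx, hx0⟩ := Submodule.exists_mem_ne_zero_of_ne_bot hne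
  have hg : Fixes W g := fun y hy => hgo y (hy v hv) (hy u hu)
  have h := map_eig hI hg hx
  rw [hgv] at h
  refine (Submodule.ne_bot_iff _).mpr ⟨φ g x, ⟨h.1, (mem_eig φ).mpr fun c => ?_⟩, fun e => hx0 ?_⟩
  · have := (mem_eig φ).mp h.2 (a ^ 2 * c)
    rw [sympT_smul, inv_pow, ← mul_assoc, inv_mul_cancel₀ (pow_ne_zero _ ha), one_mul] at this
    rw [this, AddChar.mulShift_apply]
  · rw [← phi_inv_apply (φ := φ) g x, e, map_zero]

/-- A binary anisotropic form represents every element. -/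
theorem binary_universal (h2 : (2 : F) ≠ 0) (hodd : Odd (Nat.card F)) {t k t' : F}
    (hiso : ∀ a b : F, (a, b) ≠ (0, 0) → t * a ^ 2 + k * a * b + t' * b ^ 2 ≠ 0) (s : F) :
    ∃ a b : F, t * a ^ 2 + k * a * b + t' * b ^ 2 = s := by
  classical
  haveI := Fintype.ofFinite F
  have ht : t ≠ 0 := by simpa using hiso 1 0 (by simp)
  obtain ⟨e, rfl⟩ : ∃ e, k = 2 * t * e :=
    ⟨k / (2 * t), (mul_div_cancel₀ k (mul_ne_zero h2 ht)).symm⟩
  have hd : t' - t * e ^ 2 ≠ 0 := by
    intro h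
    exact hiso (-e) 1 (by simp) (by linear_combination h)
  obtain ⟨a, b, hab⟩ := FiniteField.exists_root_sum_quadratic
    (f := Polynomial.C t * Polynomial.X ^ 2 + Polynomial.C 0 * Polynomial.X + Polynomial.C (-s))
    (g := Polynomial.C (t' - t * e ^ 2) * Polynomial.X ^ 2 + Polynomial.C 0 * Polynomial.X + Polynomial.C 0)
    (Polynomial.degree_quadratic ht) (Polynomial.degree_quadratic hd)
    (by rw [← Nat.card_eq_fintype_card]; exact Nat.odd_iff.mp hodd)
  simp only [Polynomial.eval_add, Polynomial.eval_mul, Polynomial.eval_C, Polynomial.eval_pow,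
    Polynomial.eval_X] at hab
  exact ⟨a - e * b, b, by linear_combination hab⟩

theorem exists_fix₀_ne_bot (h2 : (2 : F) ≠ 0) (hodd : Odd (Nat.card F)) (hI : InvX φ W X) (hW : Nd B W)
    (hne : X ≠ ⊥) {v u : V} (hv : v ∈ W) (hu : u ∈ W) (hvu : B v u = 1) (h4 : 4 ≤ Module.finrank F W)
    {χ₀ : AddChar F ℂ} (hχ₀ : χ₀ ≠ 1) (hmiss : X ⊓ eig φ (sympT hA v) χ₀ = ⊥) :
    ∃ r ∈ W, r ≠ 0 ∧ fix₀ hA φ r X ≠ ⊥ := by
  classical
  haveI := Fintype.ofFinite F
  obtain ⟨W', hmem, -, hd⟩ := orth_inter_pair (hA := hA) hW hv hu hvu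
  obtain ⟨w', hw'0⟩ : ∃ w : W', w ≠ 0 := by
    haveI : Nontrivial W' := Module.nontrivial_of_finrank_pos (R := F) (by omega)
    exact exists_ne 0
  set w : V := (w' : V)
  obtain ⟨hwW, hwv, hwu⟩ := (hmem w).mp w'.2
  have hw0 : w ≠ 0 := fun e => hw'0 (Subtype.ext e)
  have hvw : B v w = 0 := by rw [swap hA, hwv, neg_zero]
  let f : (F × F) × F → BilinIsom B := fun a =>
    sympT hA v a.1.1 * sympT hA w a.1.2 * srt hA hvw a.2
  have hf : ∀ a b, f (a + b) = f a * f b := fun a b => BilinIsom.ext' fun x => by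
    simp only [f, BilinIsom.mul_apply', sympT_apply, srt_apply, map_add, map_smul, LinearMap.add_apply,
      LinearMap.smul_apply, smul_eq_mul, hA v, hA w, hvw, hwv, Prod.fst_add, Prod.snd_add]
    module
  have hfW : ∀ a, Fixes W (f a) := fun a =>
    ((sympT_fixes hA hv _).mul (sympT_fixes hA hwW _)).mul (srt_fixes hA hv hwW _ _)
  obtain ⟨χ, hχ⟩ := exists_eig φ hf X (fun a => hI _ (hfW a)) hne
  obtain ⟨x, hx, hx0⟩ := Submodule.exists_mem_ne_zero_of_ne_bot hχ
  obtain ⟨hxX, hxe⟩ := Submodule.mem_inf.mp hx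
  rw [mem_eig] at hxe
  obtain ⟨t, ht⟩ := exists_mulShift hχ₀
    (χ.compAddMonoidHom ((AddMonoidHom.inl _ _).comp (AddMonoidHom.inl _ _)))
  obtain ⟨t', ht'⟩ := exists_mulShift hχ₀
    (χ.compAddMonoidHom ((AddMonoidHom.inl _ _).comp (AddMonoidHom.inr _ _)))
  obtain ⟨k, hk⟩ := exists_mulShift hχ₀ (χ.compAddMonoidHom (AddMonoidHom.inr _ _))
  simp only [AddChar.compAddMonoidHom_apply, AddMonoidHom.comp_apply, AddMonoidHom.inl_apply,
    AddMonoidHom.inr_apply, Prod.mk_zero_zero] at ht ht' hk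
  have hsplit : ∀ c c' l, χ ((c, c'), l) = χ₀ (t * c + t' * c' + k * l) := fun c c' l => by
    rw [AddChar.map_add_eq_mul, AddChar.map_add_eq_mul, ← ht, ← ht', ← hk, ← AddChar.map_add_eq_mul,
      ← AddChar.map_add_eq_mul]
    congr 1
    ext <;> simp
  have key : ∀ a b c : F, φ (sympT hA (a • v + b • w) c) x = χ₀ ((t * a ^ 2 + k * a * b + t' * b ^ 2) * c) • x :=
    fun a b c => by
      rw [sympT_split hA hvw, show sympT hA v (c * a ^ 2) * sympT hA w (c * b ^ 2) * srt hA hvw (c * a * b) =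
        f ((c * a ^ 2, c * b ^ 2), c * a * b) from rfl, hxe, hsplit]
      congr 2
      ring
  have hr0 : ∀ a b : F, (a, b) ≠ (0, 0) → a • v + b • w ≠ 0 := fun a b hab e => hab (by
    have h1 := congrArg (fun y => B y u) e
    simp [hvu, hwu] at h1
    have h3 : b • w = 0 := by simpa [h1] using e
    exact Prod.ext h1 ((smul_eq_zero.mp h3).resolve_right hw0))
  by_cases hiso : ∀ a b : F, (a, b) ≠ (0, 0) → t * a ^ 2 + k * a * b + t' * b ^ 2 ≠ 0
  · exfalso
    obtain ⟨a, b, hab⟩ := binary_universal h2 hodd hiso 1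
    have hne' : (a, b) ≠ (0, 0) := fun e => by
      obtain ⟨rfl, rfl⟩ := Prod.mk.injEq .. ▸ e
      norm_num at hab
    obtain ⟨g, hg, hgv⟩ := exists_fixes_map (hA := hA) hW (W.add_mem (W.smul_mem a hv) (W.smul_mem b hwW)) hv
      (hr0 a b hne') (fun e => by rw [e] at hvu; simp at hvu)
    have hmemx : x ∈ X ⊓ eig φ (sympT hA (a • v + b • w)) χ₀ :=
      ⟨hxX, (mem_eig φ).mpr fun c => by rw [key, hab, one_mul]⟩
    have h := map_eig hI hg hmemx
    rw [hgv, hmiss, Submodule.mem_bot] at h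
    exact hx0 (by rw [← phi_inv_apply (φ := φ) g x, h, map_zero])
  · push Not at hiso
    obtain ⟨a, b, hab, h0⟩ := hiso
    exact ⟨a • v + b • w, W.add_mem (W.smul_mem a hv) (W.smul_mem b hwW), hr0 a b hab,
      (Submodule.ne_bot_iff _).mpr ⟨x, mem_fix₀.mpr ⟨hxX, fun c => by
        rw [key, h0, zero_mul, AddChar.map_zero_eq_one, one_smul]⟩, hx0⟩⟩

theorem exists_pair (hW : Nd B W) (hnf : NoFix hA φ W X) (h4 : 4 ≤ Module.finrank F W) {r : V} (hrW : r ∈ W)
    (hr0 : r ≠ 0) (hrne : fix₀ hA φ r X ≠ ⊥) :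
    ∃ v w, v ∈ W ∧ w ∈ W ∧ B v w = 0 ∧ v ∉ Submodule.span F ({w} : Set V) ∧
      ¬ fix₀ hA φ v X ≤ fix₀ hA φ w X := by
  by_contra hc
  push Not at hc
  refine hrne ((Submodule.eq_bot_iff _).mpr fun x hx => hnf x (mem_fix₀.mp hx).1 fun s hsW => ?_)
  rcases eq_or_ne s 0 with rfl | hs0
  · intro c; rw [sympT_zero_vec, map_one, Module.End.one_apply]
  suffices h : fix₀ hA φ r X ≤ fix₀ hA φ s X from (mem_fix₀.mp (h hx)).2
  have flip : ∀ a b : V, b ∉ Submodule.span F ({a} : Set V) → a ≠ 0 →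
      a ∉ Submodule.span F ({b} : Set V) := by
    intro a b hb ha hmem
    obtain ⟨c, rfl⟩ := Submodule.mem_span_singleton.mp hmem
    have hc0 : c ≠ 0 := fun e => ha (by rw [e, zero_smul])
    exact hb (Submodule.mem_span_singleton.mpr ⟨c⁻¹, by rw [smul_smul, inv_mul_cancel₀ hc0, one_smul]⟩)
  by_cases hrs : B r s = 0
  · by_cases hdep : s ∈ Submodule.span F ({r} : Set V)
    · obtain ⟨c, rfl⟩ := Submodule.mem_span_singleton.mp hdep
      intro y hy
      rw [mem_fix₀] at hy ⊢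
      exact ⟨hy.1, fun d => by rw [sympT_smul]; exact hy.2 _⟩
    · exact hc r s hrW hsW hrs (flip r s hdep hr0)
  · obtain ⟨W', hmem, -, hd⟩ := orth_inter_pair (hA := hA) hW hrW
      (W.smul_mem (B r s)⁻¹ hsW) (by rw [map_smul, smul_eq_mul, inv_mul_cancel₀ hrs])
    obtain ⟨z', hz'0⟩ : ∃ z : W', z ≠ 0 := by
      haveI : Nontrivial W' := Module.nontrivial_of_finrank_pos (R := F) (by omega)
      exact exists_ne 0
    set z : V := (z' : V)
    obtain ⟨hzW, hzr, hzs'⟩ := (hmem z).mp z'.2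
    have hzs : B z s = 0 := by
      rw [map_smul, smul_eq_mul] at hzs'
      exact (mul_eq_zero.mp hzs').resolve_left (inv_ne_zero hrs)
    have hz0 : z ≠ 0 := fun e => hz'0 (Subtype.ext e)
    have n1 : r ∉ Submodule.span F ({z} : Set V) := fun hmem => by
      obtain ⟨c, hc⟩ := Submodule.mem_span_singleton.mp hmem
      exact hrs (by rw [← hc, map_smul, LinearMap.smul_apply, hzs, smul_zero])
    have n2 : z ∉ Submodule.span F ({s} : Set V) := fun hmem => by
      obtain ⟨c, hc⟩ := Submodule.mem_span_singleton.mp hmem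
      have hc0 : c ≠ 0 := fun e => hz0 (by rw [← hc, e, zero_smul])
      have : B r z = 0 := by rw [swap hA, hzr, neg_zero]
      rw [← hc, map_smul, smul_eq_mul] at this
      exact hrs ((mul_eq_zero.mp this).resolve_left hc0)
    exact (hc r z hrW hzW (by rw [swap hA, hzr, neg_zero]) n1).trans (hc z s hzW hsW hzs n2)

include hB in
theorem bound (h2 : (2 : F) ≠ 0) (hodd : Odd (Nat.card F)) : ∀ (n : ℕ) {W : Submodule F V}
    {X : Submodule ℂ M}, InvX φ W X → Nd B W → Module.finrank F W = 2 * n → 1 ≤ n →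
    (∃ v ∈ W, ∃ c, ∃ x ∈ X, φ (sympT hA v c) x ≠ x) →
    Nat.card F ^ n ≤ 2 * Module.finrank ℂ X + 1 := by
  classical
  haveI := Fintype.ofFinite F
  intro n
  induction n using Nat.strong_induction_on with
  | h n IH =>
    intro W X₁ hI₁ hW hdim hn hmove
    obtain ⟨v₀, hv₀, c₀, x₀, hx₀, hmv⟩ := hmove
    obtain ⟨X, hXle, hne, hI, hnf⟩ := exists_noFix hB hI₁ hv₀ hx₀ hmv
    refine le_trans ?_ (Nat.add_le_add_right (Nat.mul_le_mul_left 2 (Submodule.finrank_mono hXle)) 1)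
    have hv00 : v₀ ≠ 0 := fun e => hmv (by rw [e, sympT_zero_vec, map_one, Module.End.one_apply])
    obtain ⟨u₀, hu₀, hvu₀⟩ := exists_partner hW hv₀ hv00
    set q := Nat.card F with hq
    have hq3 : 3 ≤ q := by
      have := Finite.one_lt_card (α := F)
      rw [← hq] at this
      obtain ⟨j, hj⟩ := hodd
      omega
    obtain ⟨m, rfl⟩ : ∃ m, n = m + 1 := ⟨n - 1, by omega⟩
    have hqm : 1 ≤ q ^ m := Nat.one_le_pow _ _ (by omega)
    by_cases hall : ∀ χ : AddChar F ℂ, χ ≠ 1 → X ⊓ eig φ (sympT hA v₀) χ ≠ ⊥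
    · have h := sum_bound h2 hI hW hv₀ hu₀ hvu₀ hdim (Finset.univ.erase 1)
        fun χ hχ => ⟨(Finset.mem_erase.mp hχ).1, hall χ (Finset.mem_erase.mp hχ).1⟩
      rw [Finset.card_erase_of_mem (Finset.mem_univ _), Finset.card_univ, AddChar.card_eq,
        ← Nat.card_eq_fintype_card, ← hq, Nat.add_sub_cancel] at h
      obtain ⟨r, hr⟩ : ∃ r, q = r + 3 := ⟨q - 3, by omega⟩
      rw [hr] at h hqm ⊢
      rw [show r + 3 - 1 = r + 2 by omega, add_mul] at h
      rw [pow_succ]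
      nlinarith [h, Nat.zero_le (r * (r + 3) ^ m)]
    · have hsum : ∀ v ∈ W, v ≠ 0 → ∀ u ∈ W, B v u = 1 →
          (q - 1) / 2 * q ^ m + Module.finrank ℂ (fix₀ hA φ v X) ≤ Module.finrank ℂ X := by
        intro v hv hv0 u hu hvu
        obtain ⟨c, x, hx, hmv⟩ := root_moves hI hW hne hnf hv hv0
        obtain ⟨χ, hχ1, hχ⟩ := exists_eig_ne_one φ (fun a b => sympT_add hA v a b) X
          (fun a => hI _ (sympT_fixes hA hv a)) hx hmv
        let T := Finset.univ.image fun s : (powMonoidHom 2 : Fˣ →* Fˣ).range => χ.mulShift ((s : Fˣ) : F)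
        have hT : T.card = (q - 1) / 2 := by
          rw [Finset.card_image_of_injective _ fun a b hab => Subtype.ext (Units.ext
              (AddChar.to_mulShift_inj_of_isPrimitive (AddChar.IsPrimitive.of_ne_one hχ1) hab)),
            Finset.card_univ, ← Nat.card_eq_fintype_card, IsCyclic.card_powMonoidHom_range, Nat.card_units, ← hq]
          congr 1
          exact Nat.gcd_eq_right (by obtain ⟨j, hj⟩ := hodd; exact ⟨j, by omega⟩)
        have h := sum_bound h2 hI hW hv hu hvu hdim T fun χ' hχ' => by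
          obtain ⟨⟨_, a, rfl⟩, -, rfl⟩ := Finset.mem_image.mp hχ'
          simp only [powMonoidHom_apply, Units.val_pow_eq_pow_val]
          exact ⟨AddChar.IsPrimitive.of_ne_one hχ1 (pow_ne_zero _ a.ne_zero),
            eig_sq hI hv hu hvu a.ne_zero hχ⟩
        rwa [hT, Nat.add_sub_cancel] at h
      rcases Nat.eq_zero_or_pos m with rfl | hm
      · have h := hsum v₀ hv₀ hv00 u₀ hu₀ hvu₀
        obtain ⟨j, hj⟩ := hodd
        rw [hj] at h ⊢
        simp at h ⊢
        omega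
      · push Not at hall
        obtain ⟨χ₀, hχ₀, hmiss⟩ := hall
        obtain ⟨r, hrW, hr0, hrne⟩ :=
          exists_fix₀_ne_bot h2 hodd hI hW hne hv₀ hu₀ hvu₀ (by omega) hχ₀ hmiss
        obtain ⟨v, w, hvW, hwW, hvw, hind, hnle⟩ := exists_pair hW hnf (by omega) hrW hr0 hrne
        have hv0 : v ≠ 0 := fun e => hind (by rw [e]; exact Submodule.zero_mem _)
        obtain ⟨u', hu', hvu', hwu'⟩ : ∃ u ∈ W, B v u = 1 ∧ B w u = 0 := by
          obtain ⟨u, hu, hvu⟩ := exists_partner hW hvW hv0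
          by_contra hc
          push Not at hc
          have hwu : B w u ≠ 0 := hc u hu hvu
          have hprop : ∀ y ∈ W, B w y = B w u * B v y := by
            intro y hy
            by_contra hne'
            set z := y - B v y • u with hz
            have hzW : z ∈ W := W.sub_mem hy (W.smul_mem _ hu)
            have h0 : B v z = 0 := by rw [hz, map_sub, map_smul, hvu, smul_eq_mul, mul_one, sub_self]
            have hb : B w z ≠ 0 := by
              rw [hz, map_sub, map_smul, smul_eq_mul, sub_ne_zero, mul_comm]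
              exact hne'
            refine hc (u - (B w u / B w z) • z) (W.sub_mem hu (W.smul_mem _ hzW)) ?_ ?_
            · rw [map_sub, map_smul, h0, smul_zero, sub_zero, hvu]
            · rw [map_sub, map_smul, smul_eq_mul, div_mul_cancel₀ _ hb, sub_self]
          refine hind (Submodule.mem_span_singleton.mpr ⟨(B w u)⁻¹, ?_⟩)
          refine sub_eq_zero.mp (hW _ (W.sub_mem (W.smul_mem _ hwW) hvW) fun y hy => ?_)
          rw [map_sub, map_smul, LinearMap.sub_apply, LinearMap.smul_apply, smul_eq_mul, hprop y hy,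
            ← mul_assoc, inv_mul_cancel₀ hwu, one_mul, sub_self]
        obtain ⟨W', hmem, hW', hd⟩ := orth_inter_pair (hA := hA) hW hvW hu' hvu'
        have hI' : InvX φ W' (fix₀ hA φ v X) := by
          intro g hg x hx
          have hgW : Fixes W g := fun y hy => hg y fun z hz => hy z ((hmem z).mp hz).1
          have hgv : (g : V ≃ₗ[F] V) v = v := hg v fun z hz => by
            rw [swap hA, ((hmem z).mp hz).2.1, neg_zero]
          have := map_eig hI hgW hx
          rwa [hgv] at this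
        have hw' : w ∈ W' := (hmem w).mpr ⟨hwW, by rw [swap hA, hvw, neg_zero], hwu'⟩
        obtain ⟨y, hy, hyn⟩ := SetLike.not_le_iff_exists.mp hnle
        rw [mem_fix₀] at hyn
        push Not at hyn
        obtain ⟨c, hc⟩ := hyn (mem_fix₀.mp hy).1
        have hb := IH m (by omega) hI' hW' (by omega) hm ⟨w, hw', c, y, hy, hc⟩
        have h := hsum v hvW hv0 u' hu' hvu'
        obtain ⟨j, hj⟩ := hodd
        rw [hj, show (2 * j + 1 - 1) / 2 = j by omega] at h
        rw [hj] at hb ⊢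
        rw [pow_succ, mul_add, mul_one, ← mul_assoc, mul_comm ((2 * j + 1) ^ m) 2, mul_assoc,
          mul_comm ((2 * j + 1) ^ m) j]
        omega

end Cfsg.Lib.SpMinDeg
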