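import Mathlib
import Cfsg.Agent.Known.SpMinDegree.Bound

/-! In characteristic two the unipotent radical of a point stabiliser is abelian; its characters with a given
non-trivial restriction to the root subgroup correspond to quadratic forms, and every orbit is large. -/

set_option autoImplicit false
set_option linter.unusedSectionVars false
set_option linter.style.haveILetI false

open Cfsg.Lib.Classical Cfsg.Lib.RepEigen

namespace Cfsg.Lib.SpMinDeg

universe u v w

variable {F : Type u} [Field F] [Finite F] {V : Type v} [AddCommGroup V] [Module F V] [FiniteDimensional F V]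

omit [Finite F] in
theorem two_zero [CharP F 2] : (2 : F) = 0 := by exact_mod_cast CharP.cast_eq_zero F 2

/-- A quadratic form with prescribed alternating polar form, in characteristic two. -/
theorem exists_quad [CharP F 2] (β : LinearMap.BilinForm F V) (hβ : β.IsAlt) :
    ∃ M : LinearMap.BilinForm F V, ∀ x y, M x y + M y x = β x y := by
  classical
  let b := Module.finBasis F V
  let M : LinearMap.BilinForm F V := Matrix.toBilin b (Matrix.of fun i j => if i < j then β (b i) (b j) else 0)
  have h : M + M.flip = β := by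
    refine LinearMap.BilinForm.ext_basis b fun i j => ?_
    have hM : ∀ i j, M (b i) (b j) = if i < j then β (b i) (b j) else 0 := fun i j => by
      rw [← LinearMap.BilinForm.toMatrix_apply b, show LinearMap.BilinForm.toMatrix b M = _ from
        LinearMap.BilinForm.toMatrix_toBilin b _, Matrix.of_apply]
    simp only [LinearMap.add_apply, LinearMap.BilinForm.flip_apply, hM]
    rcases lt_trichotomy i j with h | rfl | h
    · simp [h, h.not_gt]
    · simp [hβ (b i)]
    · simp only [h.not_gt, if_false, h, if_true, zero_add]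
      rw [← hβ.neg_eq, CharTwo.neg_eq]
  exact ⟨M, fun x y => by rw [← h]; rfl⟩

/-- The map `u ↦ u ^ 2 + u`. -/
def artinSchreier (F : Type u) [Field F] [CharP F 2] : F →+ F where
  toFun u := u ^ 2 + u
  map_zero' := by ring
  map_add' a b := by linear_combination (a * b) * (two_zero (F := F))

/-- A character whose kernel is the image of `u ↦ u ^ 2 + u`. -/
theorem exists_arf_char [CharP F 2] :
    ∃ ε : AddChar F ℂ, ε ≠ 1 ∧ (∀ y, ε y = 1 ∨ ε y = -1) ∧ ∀ y, ε y = 1 → ∃ u, u ^ 2 + u = y := by
  classical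
  haveI := Fintype.ofFinite F
  obtain ⟨χ, hχ⟩ := exists_ne_one F
  obtain ⟨e, he⟩ := exists_mulShift hχ
    (χ.compAddMonoidHom (frobenius F 2).toAddMonoidHom)
  have he' : ∀ x, χ (x ^ 2) = χ (e * x) := fun x => he x
  have he0 : e ≠ 0 := fun h => hχ (DFunLike.ext _ _ fun y => by
    obtain ⟨x, rfl⟩ := (Finite.injective_iff_surjective.mp (frobenius_inj F 2)) y
    rw [frobenius_def, he', h, zero_mul, AddChar.map_zero_eq_one, AddChar.one_apply])
  let ε := χ.mulShift (e ^ 2)
  have hε : ε ≠ 1 := AddChar.IsPrimitive.of_ne_one hχ (pow_ne_zero 2 he0)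
  have hpm : ∀ y, ε y = 1 ∨ ε y = -1 := fun y => by
    refine mul_self_eq_one_iff.mp ?_
    rw [← AddChar.map_add_eq_mul, CharTwo.add_self_eq_zero, AddChar.map_zero_eq_one]
  have hAS : ∀ u, ε (u ^ 2 + u) = 1 := fun u => by
    rw [AddChar.mulShift_apply, mul_add, AddChar.map_add_eq_mul, ← mul_pow, he', ← mul_assoc, ← sq,
      ← AddChar.map_add_eq_mul, CharTwo.add_self_eq_zero, AddChar.map_zero_eq_one]
  refine ⟨ε, hε, hpm, fun y hy => ?_⟩
  let K : AddSubgroup F :=
    { carrier := {y | ε y = 1}
      add_mem' := fun {a b} (ha : ε a = 1) (hb : ε b = 1) => by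
        change ε (a + b) = 1
        rw [AddChar.map_add_eq_mul, ha, hb, mul_one]
      zero_mem' := AddChar.map_zero_eq_one _
      neg_mem' := fun {a} (ha : ε a = 1) => by
        change ε (-a) = 1
        rw [AddChar.map_neg_eq_inv, ha, inv_one] }
  have hle : (artinSchreier F).range ≤ K := by
    rintro _ ⟨u, rfl⟩
    exact hAS u
  have hne : K ≠ ⊤ := fun h => hε (DFunLike.ext _ _ fun z => by
    have : z ∈ K := h ▸ AddSubgroup.mem_top z
    rw [AddChar.one_apply]; exact this)
  have hker : Nat.card (artinSchreier F).ker = 2 := by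
    have : ((artinSchreier F).ker : Set F) = {0, 1} := by
      ext u
      simp only [SetLike.mem_coe, AddMonoidHom.mem_ker, Set.mem_insert_iff, Set.mem_singleton_iff]
      change u ^ 2 + u = 0 ↔ _
      rw [show u ^ 2 + u = u * (u + 1) by ring, mul_eq_zero, CharTwo.add_eq_zero]
    rw [← SetLike.coe_sort_coe, this, Nat.card_coe_set_eq, Set.ncard_pair zero_ne_one]
  have h1 := (artinSchreier F).ker.index_mul_card
  rw [AddSubgroup.index_ker, hker] at h1
  have h2 : 2 * Nat.card K ≤ Nat.card F := by
    rw [← K.index_mul_card]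
    refine Nat.mul_le_mul_right _ ?_
    exact (Nat.two_le_iff _).mpr ⟨K.index_ne_zero_of_finite, fun h => hne (AddSubgroup.index_eq_one.mp h)⟩
  have heq : (artinSchreier F).range = K := by
    refine AddSubgroup.eq_of_le_of_card_ge hle ?_
    change Nat.card ↥K ≤ Nat.card ↥(artinSchreier F).range
    omega
  obtain ⟨u, hu⟩ : y ∈ (artinSchreier F).range := heq ▸ hy
  exact ⟨u, hu⟩

/-- A non-degenerate quadratic form takes at least `(|V| - √|V|) / 2` values in the kernel of the Arf character. -/
theorem card_arf [CharP F 2] {k : ℕ} (hk : Module.finrank F V = 2 * k) (Q : V → F)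
    (β : LinearMap.BilinForm F V) (hβ : ∀ x y, Q (x + y) = Q x + Q y + β x y)
    (hnd : ∀ x, (∀ y, β y x = 0) → x = 0) {ε : AddChar F ℂ} (hε : ε ≠ 1) (hpm : ∀ y, ε y = 1 ∨ ε y = -1) :
    Nat.card F ^ (2 * k) - Nat.card F ^ k ≤ 2 * Nat.card {a : V // ε (Q a) = 1} := by
  classical
  haveI : Finite V := Module.finite_of_finite F
  haveI := Fintype.ofFinite V
  haveI := Fintype.ofFinite F
  set q := Nat.card F
  have hV : Fintype.card V = q ^ (2 * k) := by
    rw [← Nat.card_eq_fintype_card, Module.natCard_eq_pow_finrank (K := F), hk]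
  set S : ℂ := ∑ a, ε (Q a) with hS
  have hQ0 : Q 0 = 0 := by
    have := hβ 0 0
    simp at this
    exact this
  have hsq : S * S = (q ^ (2 * k) : ℕ) := by
    rw [hS, Finset.sum_mul_sum]
    rw [Finset.sum_congr rfl fun a _ => (Fintype.sum_equiv (Equiv.addLeft a) _ _ fun d => rfl).symm]
    have e : ∀ a d : V, ε (Q a) * ε (Q (a + d)) = ε (Q d) * ε (β a d) := fun a d => by
      rw [← AddChar.map_add_eq_mul, ← AddChar.map_add_eq_mul, hβ, ← add_assoc, ← add_assoc,
        CharTwo.add_self_eq_zero, zero_add]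
    simp only [Equiv.coe_addLeft, e]
    rw [Finset.sum_comm, Finset.sum_eq_single (0 : V)]
    · simp [hQ0, hV]
    · intro d _ hd
      rw [← Finset.mul_sum]
      have hne : ε.compAddMonoidHom (β.flip d).toAddMonoidHom ≠ 1 := by
        intro h
        obtain ⟨a, ha⟩ : ∃ a, β a d ≠ 0 := by
          by_contra hh; push Not at hh; exact hd (hnd d hh)
        refine hε (DFunLike.ext _ _ fun y => ?_)
        have := DFunLike.congr_fun h ((y / β a d) • a)
        simpa [div_mul_cancel₀ _ ha] using this
      have h0 := AddChar.sum_eq_zero_iff_ne_zero.mpr hne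
      simp only [AddChar.compAddMonoidHom_apply, LinearMap.toAddMonoidHom_coe, LinearMap.flip_apply] at h0
      rw [show ∑ i, ε (β i d) = 0 from h0, mul_zero]
    · simp
  have hsum : (2 * Nat.card {a : V // ε (Q a) = 1} : ℂ) = (q ^ (2 * k) : ℕ) + S := by
    rw [Nat.card_eq_fintype_card, Fintype.card_subtype, Finset.card_filter, Nat.cast_sum, Finset.mul_sum, ← hV,
      ← Finset.card_univ, Finset.card_eq_sum_ones, Nat.cast_sum, hS, ← Finset.sum_add_distrib]
    refine Finset.sum_congr rfl fun a _ => ?_
    rcases hpm (Q a) with h | h <;> rw [h] <;> norm_num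
  have hS' : S = (q ^ k : ℕ) ∨ S = -(q ^ k : ℕ) := mul_self_eq_mul_self_iff.mp (by
    rw [hsq, two_mul k, pow_add]; push_cast; ring)
  set N := Nat.card {a : V // ε (Q a) = 1}
  rcases hS' with h | h <;> rw [h] at hsum
  · have : 2 * N = q ^ (2 * k) + q ^ k := by exact_mod_cast hsum
    omega
  · have : 2 * N + q ^ k = q ^ (2 * k) := by
      have h' : (2 * N : ℂ) + (q ^ k : ℕ) = (q ^ (2 * k) : ℕ) := by rw [hsum]; ring
      exact_mod_cast h'
    omega

/-- Every character of a vector space is `w ↦ χ (ℓ w ^ 2)`. -/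
theorem exists_sq_form [CharP F 2] {χ : AddChar F ℂ} (hχ : χ ≠ 1) (θ : AddChar V ℂ) :
    ∃ ℓ : Module.Dual F V, ∀ w, θ w = χ (ℓ w ^ 2) := by
  classical
  haveI : Finite V := Module.finite_of_finite F
  haveI := Fintype.ofFinite V
  haveI : Finite (Module.Dual F V) := Module.finite_of_finite F
  haveI := Fintype.ofFinite (Module.Dual F V)
  let T : Module.Dual F V → AddChar V ℂ := fun ℓ =>
    χ.compAddMonoidHom ((frobenius F 2).toAddMonoidHom.comp ℓ.toAddMonoidHom)
  have hinj : Function.Injective T := by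
    intro a b hab
    by_contra hne
    obtain ⟨w, hw⟩ : ∃ w, a w ≠ b w := by
      by_contra h; push Not at h; exact hne (LinearMap.ext h)
    refine hχ (DFunLike.ext _ _ fun y => ?_)
    obtain ⟨r, rfl⟩ := (Finite.injective_iff_surjective.mp (frobenius_inj F 2)) y
    have hd : a w + b w ≠ 0 := fun h => hw (CharTwo.add_eq_zero.mp h)
    have e := DFunLike.congr_fun hab ((r / (a w + b w)) • w)
    simp only [T, AddChar.compAddMonoidHom_apply, AddMonoidHom.comp_apply, LinearMap.toAddMonoidHom_coe,
      map_smul, smul_eq_mul, RingHom.toAddMonoidHom_eq_coe, AddMonoidHom.coe_coe, frobenius_def] at e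
    rw [frobenius_def, AddChar.one_apply, show r ^ 2 = (r / (a w + b w) * a w) ^ 2 + (r / (a w + b w) * b w) ^ 2 by
      rw [← CharTwo.add_sq, ← mul_add, div_mul_cancel₀ _ hd],
      AddChar.map_add_eq_mul, e, ← AddChar.map_add_eq_mul, CharTwo.add_self_eq_zero, AddChar.map_zero_eq_one]
  have hc : Fintype.card (Module.Dual F V) = Fintype.card (AddChar V ℂ) := by
    rw [AddChar.card_eq, ← Nat.card_eq_fintype_card, ← Nat.card_eq_fintype_card,
      Module.natCard_eq_pow_finrank (K := F), Module.natCard_eq_pow_finrank (K := F) (V := V),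
      Subspace.dual_finrank_eq]
  obtain ⟨ℓ, hℓ⟩ := ((Fintype.bijective_iff_injective_and_card T).mpr ⟨hinj, hc⟩).2 θ
  exact ⟨ℓ, fun w => by rw [← hℓ]; rfl⟩

end Cfsg.Lib.SpMinDeg
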