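import Mathlib
import Cfsg.Agent.Known.SpMinDegree.EvenOrbit
import Cfsg.Agent.Classical.Symp.Matrix

/-! The lower bound `(q ^ n - 1) (q ^ n - q) / (2 (q + 1))` for symplectic groups in characteristic two. -/

set_option autoImplicit false
set_option linter.unusedSectionVars false
set_option linter.style.haveILetI false
set_option maxHeartbeats 1000000

open Cfsg.Lib.Classical Cfsg.Lib.RepEigen

namespace Cfsg.Lib.SpMinDeg

universe u v w

/-- Twice the lower bound. -/
def evenBnd (q : ℕ) : ℕ → ℕ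
  | 0 => 0
  | k + 1 => (q - 1) * (q ^ (2 * k) - q ^ k) + evenBnd q k

theorem evenBnd_spec (q : ℕ) (hq : 1 ≤ q) :
    ∀ n, (q + 1) * evenBnd q n + q ^ n * (q + 1) = q ^ (2 * n) + q
  | 0 => by simp [evenBnd]; ring
  | k + 1 => by
    have h := evenBnd_spec q hq k
    have hle : q ^ k ≤ q ^ (2 * k) := Nat.pow_le_pow_right hq (by omega)
    simp only [evenBnd]
    zify [hle, hq] at h ⊢
    push_cast
    rw [pow_succ, show 2 * (k + 1) = 2 * k + 2 by ring, pow_add]
    linear_combination h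

variable {F : Type u} [Field F] {V : Type v} [AddCommGroup V] [Module F V] [Finite F] [FiniteDimensional F V]
  [CharP F 2] {B : LinearMap.BilinForm F V} (hA : B.IsAlt) (hB : B.Nondegenerate)
  {M : Type w} [AddCommGroup M] [Module ℂ M] [FiniteDimensional ℂ M]
  {φ : BilinIsom B →* Module.End ℂ M} {W : Submodule F V} {X : Submodule ℂ M}

theorem srt_mul {v a b : V} (ha : B v a = 0) (hb : B v b = 0) (hab : B v (a + b) = 0) :
    srt hA ha 1 * srt hA hb 1 = srt hA hab 1 * sympT hA v (B b a) :=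
  BilinIsom.ext' fun x => by
    simp only [BilinIsom.mul_apply', srt_apply, sympT_apply, map_add, map_smul, LinearMap.add_apply,
      LinearMap.smul_apply, smul_eq_mul, hA v, ha, hb, swap hA a v, swap hA b v]
    module

theorem srt_conj (g : BilinIsom B) {v w : V} (h : B v w = 0)
    (h' : B ((g : V ≃ₗ[F] V) v) ((g : V ≃ₗ[F] V) w) = 0) (l : F) :
    g * srt hA h l * g⁻¹ = srt hA h' l :=
  BilinIsom.ext' fun x => by
    rw [BilinIsom.mul_apply', BilinIsom.mul_apply']
    simp only [srt_apply, map_add, map_smul, BilinIsom.apply_inv_self]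
    rw [← BilinIsom.map_form g (((g⁻¹ : BilinIsom B) : V ≃ₗ[F] V) x) w,
      ← BilinIsom.map_form g (((g⁻¹ : BilinIsom B) : V ≃ₗ[F] V) x) v, BilinIsom.apply_inv_self]

include hA in
theorem orbit_bound (hI : InvX φ W X) (hW : Nd B W) {v u : V} (hv : v ∈ W) (hu : u ∈ W) (hvu : B v u = 1)
    {k : ℕ} (hk : Module.finrank F W = 2 * (k + 1)) {χ : AddChar F ℂ} (hχ : χ ≠ 1)
    (hne : X ⊓ eig φ (sympT hA v) χ ≠ ⊥) :
    Nat.card F ^ (2 * k) - Nat.card F ^ k ≤ 2 * Module.finrank ℂ ↥(X ⊓ eig φ (sympT hA v) χ) := by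
  classical
  haveI : Finite V := Module.finite_of_finite F
  haveI := Fintype.ofFinite F
  obtain ⟨W', hmem, hW', hd⟩ := orth_inter_pair (hA := hA) hW hv hu hvu
  haveI := Fintype.ofFinite W'
  set Y := X ⊓ eig φ (sympT hA v) χ with hY
  let β : LinearMap.BilinForm F W' := B.restrict W'
  have hβA : β.IsAlt := fun x => hA (x : V)
  obtain ⟨M₀, hM₀⟩ := exists_quad β hβA
  have hw : ∀ w : W', B v (w : V) = 0 := fun w => by rw [swap hA, ((hmem _).mp w.2).2.1, neg_zero]
  let q₀ : W' → F := fun w => M₀ w w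
  have hq₀ : ∀ a b, q₀ (a + b) = q₀ a + q₀ b + B (a : V) b := fun a b => by
    simp only [q₀, map_add, LinearMap.add_apply]
    rw [show B (a : V) b = β a b from rfl, ← hM₀]
    ring
  let f : W' × F → BilinIsom B := fun a => srt hA (hw a.1) 1 * sympT hA v (a.2 + q₀ a.1)
  have hcomm : ∀ (w : W') c, Commute (srt hA (hw w) 1) (sympT hA v c) := fun w c =>
    root_commute hA (srt_centre hA _ _) c
  have hf : ∀ a b, f (a + b) = f a * f b := by
    intro a b
    simp only [f]
    rw [mul_assoc, ← mul_assoc (sympT hA v _) (srt hA (hw b.1) 1), ← (hcomm b.1 _).eq, mul_assoc, ← mul_assoc,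
      srt_mul hA (hw a.1) (hw b.1) (hw (a.1 + b.1)), mul_assoc, ← sympT_add, ← sympT_add]
    congr 2
    rw [Prod.fst_add, Prod.snd_add, hq₀, swap hA (b.1 : V), CharTwo.neg_eq]
    linear_combination (0 : F) * (two_zero (F := F))
  have hfix : ∀ a, Fixes W (f a) ∧ (f a : V ≃ₗ[F] V) v = v := fun a =>
    ⟨(srt_fixes hA hv ((hmem _).mp a.1.2).1 _ _).mul (sympT_fixes hA hv _), by
      rw [BilinIsom.mul_apply', sympT_apply, hA v, mul_zero, zero_smul, add_zero, srt_centre]⟩
  have hfY : ∀ a, ∀ x ∈ Y, φ (f a) x ∈ Y := fun a x hx => by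
    have h := map_eig hI (hfix a).1 hx
    rwa [(hfix a).2] at h
  obtain ⟨θ, hθ⟩ := exists_eig φ hf Y hfY hne
  obtain ⟨x, hx, hx0⟩ := Submodule.exists_mem_ne_zero_of_ne_bot hθ
  obtain ⟨hxY, hxe⟩ := Submodule.mem_inf.mp hx
  rw [mem_eig] at hxe
  obtain ⟨ℓ, hℓ⟩ := exists_sq_form hχ (θ.compAddMonoidHom (AddMonoidHom.inl W' F))
  have hfc : ∀ c, f (0, c) = sympT hA v c := fun c => by
    have h1 : srt hA (hw 0) 1 = 1 := BilinIsom.ext' fun y => by simp [srt_apply, BilinIsom.one_apply']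
    simp [f, q₀, h1]
  have hθ' : ∀ w c, θ (w, c) = χ (ℓ w ^ 2 + c) := fun w c => by
    have h1 : θ (0, c) = χ c := by
      have := hxe (0, c)
      rw [hfc, (mem_eig φ).mp hxY.2 c] at this
      exact (smul_left_injective ℂ hx0 this).symm
    rw [show ((w, c) : W' × F) = (w, 0) + (0, c) by simp, AddChar.map_add_eq_mul, h1, AddChar.map_add_eq_mul,
      show θ (w, 0) = θ.compAddMonoidHom (AddMonoidHom.inl W' F) w from rfl, hℓ]
  obtain ⟨ε, hε, hpm, hεu⟩ := exists_arf_char (F := F)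
  let Q : W' → F := fun a => q₀ a + ℓ a ^ 2
  have hQ : ∀ a b, Q (a + b) = Q a + Q b + β a b := fun a b => by
    simp only [Q, hq₀, map_add, CharTwo.add_sq]
    change _ = _ + B (a : V) b
    ring
  have hnd : ∀ a, (∀ b, β b a = 0) → a = 0 := fun a h =>
    Subtype.ext (hW' a a.2 fun y hy => by rw [swap hA, show B y (a : V) = 0 from h ⟨y, hy⟩, neg_zero])
  have hcount := card_arf (k := k) (by omega) Q β hQ hnd hε hpm
  refine hcount.trans (Nat.mul_le_mul_left 2 ?_)
  let G : Finset W' := Finset.univ.filter fun a => ε (Q a) = 1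
  let h : W' → AddChar (W' × F) ℂ := fun a => χ.compAddMonoidHom
    { toFun := fun p => (ℓ p.1 + B (p.1 : V) a) ^ 2 + p.2
      map_zero' := by simp
      map_add' := fun p r => by
        simp only [Prod.fst_add, Prod.snd_add, map_add, Submodule.coe_add, LinearMap.add_apply, CharTwo.add_sq]
        ring }
  have hh : ∀ a w c, h a (w, c) = χ ((ℓ w + B (w : V) a) ^ 2 + c) := fun _ _ _ => rfl
  have hinj : Function.Injective h := by
    intro a b hab
    refine sub_eq_zero.mp (hnd _ fun w => ?_)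
    by_contra hne'
    refine hχ (DFunLike.ext _ _ fun y => ?_)
    have e1 := DFunLike.congr_fun hab (((y / (ℓ w + B (w : V) a) ^ 2) • (0 : W')), (0 : F))
    obtain ⟨r, rfl⟩ := (Finite.injective_iff_surjective.mp (frobenius_inj F 2)) y
    have hd : B (w : V) a + B (w : V) b ≠ 0 := fun e => hne' (by
      change B (w : V) ((a : V) - b) = 0
      rw [map_sub, CharTwo.sub_eq_add, e])
    have e := DFunLike.congr_fun hab (((r / (B (w : V) a + B (w : V) b)) • w), (0 : F))
    rw [hh, hh, map_smul, Submodule.coe_smul, map_smul, LinearMap.smul_apply, LinearMap.smul_apply, add_zero,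
      add_zero] at e
    simp only [smul_eq_mul, ← mul_add] at e
    set t := r / (B (w : V) a + B (w : V) b)
    rw [frobenius_def, AddChar.one_apply, show r ^ 2 = (t * (ℓ w + B (w : V) a)) ^ 2 + (t * (ℓ w + B (w : V) b)) ^ 2 by
      rw [← CharTwo.add_sq, ← mul_add,
        show ℓ w + B (w : V) a + (ℓ w + B (w : V) b) = B (w : V) a + B (w : V) b by
          linear_combination (ℓ w) * (two_zero (F := F)),
        div_mul_cancel₀ _ hd],
      AddChar.map_add_eq_mul, e, ← AddChar.map_add_eq_mul, CharTwo.add_self_eq_zero, AddChar.map_zero_eq_one]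
  have hG : ∀ a ∈ G, Y ⊓ eig φ f (h a) ≠ ⊥ := by
    intro a ha
    obtain ⟨u', hu'⟩ := hεu _ (Finset.mem_filter.mp ha).2
    obtain ⟨s, hs⟩ : ∃ s : F, s ^ 2 * Q a + s = 1 := by
      rcases eq_or_ne u' 0 with rfl | h0
      · exact ⟨1, by rw [← hu']; ring⟩
      · refine ⟨u'⁻¹, ?_⟩
        rw [← hu']
        field_simp
        linear_combination two_zero (F := F)
    obtain ⟨haW, hav, -⟩ := (hmem _).mp a.2
    set g := sympT hA (a : V) s with hg
    have hgW : Fixes W g := sympT_fixes hA haW s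
    have hgv : (g : V ≃ₗ[F] V) v = v := by rw [hg, sympT_apply, hw a, mul_zero, zero_smul, add_zero]
    refine (Submodule.ne_bot_iff _).mpr ⟨φ g x, ⟨?_, (mem_eig φ).mpr ?_⟩, fun e => hx0 ?_⟩
    · have := map_eig hI hgW hxY
      rwa [hgv] at this
    · rintro ⟨w, c⟩
      set w₁ : W' := w + (s * B (w : V) a) • a with hw₁
      have hTw : (g : V ≃ₗ[F] V) (w₁ : V) = w := by
        rw [hg, sympT_apply, hw₁, Submodule.coe_add, Submodule.coe_smul, map_add, map_smul, LinearMap.add_apply,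
          LinearMap.smul_apply, hA (a : V), smul_zero, add_zero, add_assoc, ← add_smul, CharTwo.add_self_eq_zero,
          zero_smul, add_zero]
      have hgv' : B ((g : V ≃ₗ[F] V) v) ((g : V ≃ₗ[F] V) (w₁ : V)) = 0 := by
        rw [BilinIsom.map_form]; exact hw w₁
      have hconj : f (w, c) = g * f (w₁, c + q₀ w + q₀ w₁) * g⁻¹ := by
        simp only [f]
        rw [show g * (srt hA (hw w₁) 1 * sympT hA v (c + q₀ w + q₀ w₁ + q₀ w₁)) * g⁻¹ =
          g * srt hA (hw w₁) 1 * g⁻¹ * (g * sympT hA v (c + q₀ w + q₀ w₁ + q₀ w₁) * g⁻¹) by group,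
          srt_conj hA g (hw w₁) hgv', (root_commute hA hgv _).eq, mul_inv_cancel_right, add_assoc (c + q₀ w), CharTwo.add_self_eq_zero, add_zero]
        congr 1
        exact BilinIsom.ext' fun y => by rw [srt_apply, srt_apply, hTw, hgv]
      rw [hconj, phi_conj_apply, hxe, map_smul, hθ', hh]
      congr 2
      have e3 : q₀ w₁ = q₀ w + (s * B (w : V) a) ^ 2 * q₀ a + s * B (w : V) a * B (w : V) a := by
        rw [hw₁, hq₀, Submodule.coe_smul, map_smul, smul_eq_mul]
        simp only [q₀, map_smul, LinearMap.smul_apply, smul_eq_mul]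
        ring
      have hs' : s ^ 2 * (q₀ a + ℓ a ^ 2) + s = 1 := hs
      rw [e3, hw₁, map_add, map_smul, smul_eq_mul]
      linear_combination (B (w : V) a) ^ 2 * hs' +
        (q₀ w + s * B (w : V) a * ℓ a * ℓ w - ℓ w * B (w : V) a) * (two_zero (F := F))
    · rw [← phi_inv_apply (φ := φ) g x, e, map_zero]
  rw [Nat.card_eq_fintype_card, Fintype.card_subtype]
  refine le_trans ?_ (sum_finrank_eig_le φ hf Y)
  refine le_trans ?_ (Finset.sum_le_sum_of_subset (Finset.subset_univ (G.image h)))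
  rw [← Finset.card_image_of_injective G hinj, ← mul_one (G.image h).card, ← smul_eq_mul]
  refine Finset.card_nsmul_le_sum _ _ _ fun ξ hξ => ?_
  obtain ⟨a, ha, rfl⟩ := Finset.mem_image.mp hξ
  exact Nat.one_le_iff_ne_zero.mpr fun e => hG a ha (Submodule.finrank_eq_zero.mp e)

theorem sq_surjective (t : F) : ∃ a : F, a ^ 2 = t :=
  (Finite.injective_iff_surjective.mp (frobenius_inj F 2)) t

include hA hB in
theorem even_step (hI : InvX φ W X) (hW : Nd B W) (hne : X ≠ ⊥) (hnf : NoFix hA φ W X) {v u : V} (hv : v ∈ W)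
    (hu : u ∈ W) (hvu : B v u = 1) {k : ℕ} (hk : Module.finrank F W = 2 * (k + 1)) :
    (Nat.card F - 1) * (Nat.card F ^ (2 * k) - Nat.card F ^ k) + 2 * Module.finrank ℂ (fix₀ hA φ v X) ≤
      2 * Module.finrank ℂ X := by
  classical
  haveI := Fintype.ofFinite F
  have hv0 : v ≠ 0 := fun e => by rw [e] at hvu; simp at hvu
  obtain ⟨c, x, hx, hmv⟩ := root_moves hI hW hne hnf hv hv0
  obtain ⟨χ, hχ1, hχ⟩ := exists_eig_ne_one φ (fun a b => sympT_add hA v a b) X
    (fun a => hI _ (sympT_fixes hA hv a)) hx hmv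
  have hall : ∀ χ' : AddChar F ℂ, χ' ≠ 1 → X ⊓ eig φ (sympT hA v) χ' ≠ ⊥ := by
    intro χ' hχ'
    obtain ⟨t, ht⟩ := exists_mulShift hχ1 χ'
    obtain ⟨a, rfl⟩ := sq_surjective t
    have ha : a ≠ 0 := fun e => hχ' (DFunLike.ext _ _ fun y => by
      rw [ht, e]; simp)
    rw [show χ' = χ.mulShift (a ^ 2) from DFunLike.ext _ _ fun y => by rw [ht, AddChar.mulShift_apply]]
    exact eig_sq hI hv hu hvu ha hχ
  refine le_trans ?_ (Nat.mul_le_mul_left 2 (sum_finrank_eig_le φ (fun a b => sympT_add hA v a b) X))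
  rw [← Finset.sum_erase_add _ _ (Finset.mem_univ (1 : AddChar F ℂ)), mul_add, Finset.mul_sum]
  refine add_le_add ?_ le_rfl
  refine le_trans (le_of_eq ?_) (Finset.card_nsmul_le_sum _ _ _ fun ξ hξ =>
    orbit_bound hA hI hW hv hu hvu hk (Finset.mem_erase.mp hξ).1 (hall ξ (Finset.mem_erase.mp hξ).1))
  rw [smul_eq_mul, Finset.card_erase_of_mem (Finset.mem_univ _), Finset.card_univ, AddChar.card_eq,
    Nat.card_eq_fintype_card]

theorem char_sum {A ι : Type*} [AddCommMonoid A] (θ : AddChar A ℂ) (s : Finset ι) (g : ι → A) :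
    θ (∑ i ∈ s, g i) = ∏ i ∈ s, θ (g i) := by
  classical
  induction s using Finset.induction_on with
  | empty => simp
  | insert i s hi ih => rw [Finset.sum_insert hi, AddChar.map_add_eq_mul, ih, Finset.prod_insert hi]

/-- A ternary quadratic form in characteristic two is isotropic. -/
theorem ternary_isotropic (t : Fin 6 → F) : ∃ a b c : F, (a ≠ 0 ∨ b ≠ 0 ∨ c ≠ 0) ∧
    t 0 * a ^ 2 + t 1 * b ^ 2 + t 2 * c ^ 2 + t 3 * (a * b) + t 4 * (a * c) + t 5 * (b * c) = 0 := by
  by_cases h : t 3 = 0 ∧ t 4 = 0 ∧ t 5 = 0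
  · obtain ⟨h3, h4, h5⟩ := h
    obtain ⟨a, ha⟩ := sq_surjective (t 1)
    obtain ⟨b, hb⟩ := sq_surjective (t 0)
    by_cases h0 : t 0 = 0 ∧ t 1 = 0
    · exact ⟨1, 0, 0, Or.inl one_ne_zero, by simp [h0.1]⟩
    · refine ⟨a, b, 0, ?_, ?_⟩
      · by_contra hc
        push Not at hc
        exact h0 ⟨by rw [← hb, hc.2.1]; ring, by rw [← ha, hc.1]; ring⟩
      · rw [ha, hb, h3, h4, h5]
        linear_combination (t 0 * t 1) * (two_zero (F := F))
  · set N := t 0 * t 5 ^ 2 + t 1 * t 4 ^ 2 + t 2 * t 3 ^ 2 + 3 * (t 3 * t 4 * t 5) with hN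
    by_cases hN0 : N = 0
    · refine ⟨t 5, t 4, t 3, ?_, by linear_combination hN0⟩
      by_contra hc; push Not at hc; exact h ⟨hc.2.2, hc.2.1, hc.1⟩
    · by_cases h34 : t 3 = 0 ∧ t 4 = 0
      · obtain ⟨s, hs⟩ := sq_surjective (t 1 / N)
        rw [eq_div_iff hN0] at hs
        refine ⟨s * t 5, s * t 4 + 1, s * t 3, Or.inr (Or.inl (by rw [h34.2]; simp)), ?_⟩
        linear_combination hs + (t 1 + t 1 * s * t 4 + s * t 3 * t 5) * (two_zero (F := F))
      · obtain ⟨s, hs⟩ := sq_surjective (t 0 / N)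
        rw [eq_div_iff hN0] at hs
        refine ⟨s * t 5 + 1, s * t 4, s * t 3, ?_, ?_⟩
        · by_contra hc
          push Not at hc
          have hs0 : s ≠ 0 := fun e => by simp [e] at hc
          exact h34 ⟨(mul_eq_zero.mp hc.2.2).resolve_left hs0, (mul_eq_zero.mp hc.2.1).resolve_left hs0⟩
        · linear_combination hs + (t 0 + t 0 * s * t 5 + s * t 3 * t 4) * (two_zero (F := F))

include hA hB in
theorem even_exists_fix₀ (hI : InvX φ W X) (hW : Nd B W) (hne : X ≠ ⊥) (h6 : 6 ≤ Module.finrank F W) :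
    ∃ r ∈ W, r ≠ 0 ∧ fix₀ hA φ r X ≠ ⊥ := by
  classical
  haveI := Fintype.ofFinite F
  obtain ⟨v, hv, hv0⟩ : ∃ v ∈ W, v ≠ 0 := by
    haveI : Nontrivial W := Module.nontrivial_of_finrank_pos (R := F) (by omega)
    obtain ⟨z, hz⟩ := exists_ne (0 : W)
    exact ⟨z, z.2, fun e => hz (Subtype.ext e)⟩
  obtain ⟨u, hu, hvu⟩ := exists_partner hW hv hv0
  obtain ⟨W₁, hm₁, hW₁, hd₁⟩ := orth_inter_pair (hA := hA) hW hv hu hvu
  obtain ⟨w, hw, hw0⟩ : ∃ w ∈ W₁, w ≠ 0 := by
    haveI : Nontrivial W₁ := Module.nontrivial_of_finrank_pos (R := F) (by omega)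
    obtain ⟨z, hz⟩ := exists_ne (0 : W₁)
    exact ⟨z, z.2, fun e => hz (Subtype.ext e)⟩
  obtain ⟨u₂, hu₂, hwu₂⟩ := exists_partner hW₁ hw hw0
  obtain ⟨W₂, hm₂, hW₂, hd₂⟩ := orth_inter_pair (hA := hA) hW₁ hw hu₂ hwu₂
  obtain ⟨z, hz, hz0⟩ : ∃ z ∈ W₂, z ≠ 0 := by
    haveI : Nontrivial W₂ := Module.nontrivial_of_finrank_pos (R := F) (by omega)
    obtain ⟨z, hz⟩ := exists_ne (0 : W₂)
    exact ⟨z, z.2, fun e => hz (Subtype.ext e)⟩
  obtain ⟨hwW, hwv, hwu⟩ := (hm₁ w).mp hw
  obtain ⟨hz₁, hzw, hzu₂⟩ := (hm₂ z).mp hz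
  obtain ⟨hzW, hzv, hzu⟩ := (hm₁ z).mp hz₁
  have hu₂u : B u₂ u = 0 := ((hm₁ u₂).mp hu₂).2.2
  have hu₂v : B u₂ v = 0 := ((hm₁ u₂).mp hu₂).2.1
  have hvw : B v w = 0 := by rw [swap hA, hwv, neg_zero]
  have hvz : B v z = 0 := by rw [swap hA, hzv, neg_zero]
  have hwz : B w z = 0 := by rw [swap hA, hzw, neg_zero]
  let f : (Fin 6 → F) → BilinIsom B := fun a =>
    sympT hA v (a 0) * sympT hA w (a 1) * sympT hA z (a 2) * srt hA hvw (a 3) * srt hA hvz (a 4) *
      srt hA hwz (a 5)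
  have happ : ∀ a y, ((f a : BilinIsom B) : V ≃ₗ[F] V) y = y +
      (a 0 * B y v + a 3 * B y w + a 4 * B y z) • v + (a 1 * B y w + a 3 * B y v + a 5 * B y z) • w +
      (a 2 * B y z + a 4 * B y v + a 5 * B y w) • z := by
    intro a y
    have p5 : ∀ p : V, ∀ c, ((srt hA hwz c : BilinIsom B) : V ≃ₗ[F] V) p = p + (c * B p z) • w + (c * B p w) • z :=
      fun p c => by rw [srt_apply]; module
    have p4 : ∀ p : V, ∀ c, ((srt hA hvz c : BilinIsom B) : V ≃ₗ[F] V) p = p + (c * B p z) • v + (c * B p v) • z :=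
      fun p c => by rw [srt_apply]; module
    have p3 : ∀ p : V, ∀ c, ((srt hA hvw c : BilinIsom B) : V ≃ₗ[F] V) p = p + (c * B p w) • v + (c * B p v) • w :=
      fun p c => by rw [srt_apply]; module
    have hb : ∀ (p : V) (α β γ : F),
        B (p + α • v + β • w + γ • z) v = B p v ∧ B (p + α • v + β • w + γ • z) w = B p w ∧
          B (p + α • v + β • w + γ • z) z = B p z := fun p α β γ => by
      simp [hA v, hA w, hA z, hvw, hvz, hwz, hwv, hzv, hzw]
    simp only [f, BilinIsom.mul_apply']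
    set y₁ := y + (a 5 * B y z) • w + (a 5 * B y w) • z with hy₁
    have e₁ : B y₁ v = B y v ∧ B y₁ w = B y w ∧ B y₁ z = B y z := by
      have := hb y 0 (a 5 * B y z) (a 5 * B y w)
      simpa [hy₁] using this
    set y₂ := y₁ + (a 4 * B y z) • v + (a 4 * B y v) • z with hy₂
    have e₂ : B y₂ v = B y v ∧ B y₂ w = B y w ∧ B y₂ z = B y z := by
      have := hb y₁ (a 4 * B y z) 0 (a 4 * B y v)
      simpa [hy₂, e₁] using this
    set y₃ := y₂ + (a 3 * B y w) • v + (a 3 * B y v) • w with hy₃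
    have e₃ : B y₃ v = B y v ∧ B y₃ w = B y w ∧ B y₃ z = B y z := by
      have := hb y₂ (a 3 * B y w) (a 3 * B y v) 0
      simpa [hy₃, e₂] using this
    have e₄ : B (y₃ + (a 2 * B y z) • z) v = B y v ∧ B (y₃ + (a 2 * B y z) • z) w = B y w := by
      have := hb y₃ 0 0 (a 2 * B y z)
      simp only [zero_smul, add_zero] at this
      exact ⟨this.1.trans e₃.1, this.2.1.trans e₃.2.1⟩
    have e₅ : B (y₃ + (a 2 * B y z) • z + (a 1 * B y w) • w) v = B y v := by
      have := hb y₃ 0 (a 1 * B y w) (a 2 * B y z)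
      simp only [zero_smul, add_zero] at this
      rw [add_right_comm]
      exact this.1.trans e₃.1
    rw [p5, p4, ← hy₁, e₁.2.2, e₁.1, ← hy₂, p3, e₂.2.1, e₂.1, ← hy₃, sympT_apply hA z, e₃.2.2,
      sympT_apply hA w, e₄.2, sympT_apply hA v, e₅, hy₃, hy₂, hy₁]
    module
  have hinv : ∀ a y, B (((f a : BilinIsom B) : V ≃ₗ[F] V) y) v = B y v ∧
      B (((f a : BilinIsom B) : V ≃ₗ[F] V) y) w = B y w ∧ B (((f a : BilinIsom B) : V ≃ₗ[F] V) y) z = B y z :=
    fun a y => by
      rw [happ]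
      simp [hA v, hA w, hA z, hvw, hvz, hwz, hwv, hzv, hzw]
  have hf : ∀ a b, f (a + b) = f a * f b := fun a b => BilinIsom.ext' fun y => by
    rw [happ (a + b), BilinIsom.mul_apply', happ a, (hinv b y).1, (hinv b y).2.1, (hinv b y).2.2, happ b]
    simp only [Pi.add_apply]
    module
  have hfW : ∀ a, Fixes W (f a) := fun a =>
    (((((sympT_fixes hA hv _).mul (sympT_fixes hA hwW _)).mul (sympT_fixes hA hzW _)).mul
      (srt_fixes hA hv hwW _ _)).mul (srt_fixes hA hv hzW _ _)).mul (srt_fixes hA hwW hzW _ _)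
  obtain ⟨θ, hθ⟩ := exists_eig φ hf X (fun a => hI _ (hfW a)) hne
  obtain ⟨x, hx, hx0⟩ := Submodule.exists_mem_ne_zero_of_ne_bot hθ
  obtain ⟨hxX, hxe⟩ := Submodule.mem_inf.mp hx
  rw [mem_eig] at hxe
  obtain ⟨χ₀, hχ₀⟩ := exists_ne_one F
  choose t ht using fun i : Fin 6 =>
    exists_mulShift hχ₀ (θ.compAddMonoidHom (AddMonoidHom.single (fun _ => F) i))
  have hθ' : ∀ a, θ a = χ₀ (∑ i, t i * a i) := fun a => by
    conv_lhs => rw [← Finset.univ_sum_single a]
    rw [char_sum, char_sum]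
    exact Finset.prod_congr rfl fun i _ => ht i (a i)
  obtain ⟨a, b, c, hne', h0⟩ := ternary_isotropic t
  set r := a • v + b • w + c • z with hr
  have hr0 : r ≠ 0 := by
    intro e
    have h1 := congrArg (fun y => B y u) e
    simp [hr, hvu, hwu, hzu] at h1
    have h2 := congrArg (fun y => B y u₂) e
    have hvu₂ : B v u₂ = 0 := by rw [swap hA, hu₂v, neg_zero]
    simp [hr, hvu₂, hwu₂, hzu₂] at h2
    have h3 : c • z = 0 := by simpa [hr, h1, h2] using e
    rcases hne' with h | h | h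
    · exact h h1
    · exact h h2
    · exact h ((smul_eq_zero.mp h3).resolve_right hz0)
  refine ⟨r, W.add_mem (W.add_mem (W.smul_mem a hv) (W.smul_mem b hwW)) (W.smul_mem c hzW), hr0,
    (Submodule.ne_bot_iff _).mpr ⟨x, mem_fix₀.mpr ⟨hxX, fun d => ?_⟩, hx0⟩⟩
  have e : sympT hA r d = f ![d * a ^ 2, d * b ^ 2, d * c ^ 2, d * (a * b), d * (a * c), d * (b * c)] :=
    BilinIsom.ext' fun y => by
      rw [happ, sympT_apply, hr]
      simp only [map_add, map_smul, smul_eq_mul, Matrix.cons_val]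
      module
  rw [e, hxe, hθ']
  simp only [Fin.sum_univ_six, Matrix.cons_val]
  rw [show t 0 * (d * a ^ 2) + t 1 * (d * b ^ 2) + t 2 * (d * c ^ 2) + t 3 * (d * (a * b)) +
      t 4 * (d * (a * c)) + t 5 * (d * (b * c)) = 0 by linear_combination d * h0, AddChar.map_zero_eq_one, one_smul]

include hA hB in
theorem even_bound : ∀ (n : ℕ) {W : Submodule F V} {X : Submodule ℂ M}, InvX φ W X → Nd B W →
    Module.finrank F W = 2 * n → (∃ v ∈ W, ∃ c, ∃ x ∈ X, φ (sympT hA v c) x ≠ x) →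
    evenBnd (Nat.card F) n ≤ 2 * Module.finrank ℂ X := by
  intro n
  induction n using Nat.strong_induction_on with
  | h n IH =>
    intro W X₁ hI₁ hW hdim hmove
    obtain ⟨v₀, hv₀, c₀, x₀, hx₀, hmv⟩ := hmove
    obtain ⟨X, hXle, hne, hI, hnf⟩ := exists_noFix hB hI₁ hv₀ hx₀ hmv
    refine le_trans ?_ (Nat.mul_le_mul_left 2 (Submodule.finrank_mono hXle))
    have hv00 : v₀ ≠ 0 := fun e => hmv (by rw [e, sympT_zero_vec, map_one, Module.End.one_apply])
    obtain ⟨u₀, hu₀, hvu₀⟩ := exists_partner hW hv₀ hv00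
    rcases n with _ | k
    · simp [evenBnd]
    rcases lt_or_ge k 2 with hk | hk
    · have h := even_step hA hB hI hW hne hnf hv₀ hu₀ hvu₀ hdim
      interval_cases k <;> simp [evenBnd] at h ⊢ <;> omega
    · obtain ⟨r, hrW, hr0, hrne⟩ := even_exists_fix₀ hA hB hI hW hne (by omega)
      obtain ⟨v, w, hvW, hwW, hvw, hind, hnle⟩ := exists_pair hW hnf (by omega) hrW hr0 hrne
      have hv0 : v ≠ 0 := fun e => hind (by rw [e]; exact Submodule.zero_mem _)
      obtain ⟨u', hu', hvu', hwu'⟩ : ∃ u ∈ W, B v u = 1 ∧ B w u = 0 := by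
        obtain ⟨u, hu, hvu⟩ := exists_partner hW hvW hv0
        by_contra hc
        push Not at hc
        have hwu : B w u ≠ 0 := hc u hu hvu
        have hprop : ∀ y ∈ W, B w y = B w u * B v y := by
          intro y hy
          by_contra hne'
          set z := y - B v y • u with hz
          have hzW : z ∈ W := W.sub_mem hy (W.smul_mem _ hu)
          have h0 : B v z = 0 := by rw [hz, map_sub, map_smul, hvu, smul_eq_mul, mul_one, sub_self]
          have hb : B w z ≠ 0 := by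
            rw [hz, map_sub, map_smul, smul_eq_mul, sub_ne_zero, mul_comm]
            exact hne'
          refine hc (u - (B w u / B w z) • z) (W.sub_mem hu (W.smul_mem _ hzW)) ?_ ?_
          · rw [map_sub, map_smul, h0, smul_zero, sub_zero, hvu]
          · rw [map_sub, map_smul, smul_eq_mul, div_mul_cancel₀ _ hb, sub_self]
        refine hind (Submodule.mem_span_singleton.mpr ⟨(B w u)⁻¹, ?_⟩)
        refine sub_eq_zero.mp (hW _ (W.sub_mem (W.smul_mem _ hwW) hvW) fun y hy => ?_)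
        rw [map_sub, map_smul, LinearMap.sub_apply, LinearMap.smul_apply, smul_eq_mul, hprop y hy,
          ← mul_assoc, inv_mul_cancel₀ hwu, one_mul, sub_self]
      obtain ⟨W', hmem, hW', hd⟩ := orth_inter_pair (hA := hA) hW hvW hu' hvu'
      have hI' : InvX φ W' (fix₀ hA φ v X) := by
        intro g hg x hx
        have hgW : Fixes W g := fun y hy => hg y fun z hz => hy z ((hmem z).mp hz).1
        have hgv : (g : V ≃ₗ[F] V) v = v := hg v fun z hz => by
          rw [swap hA, ((hmem z).mp hz).2.1, neg_zero]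
        have := map_eig hI hgW hx
        rwa [hgv] at this
      have hw' : w ∈ W' := (hmem w).mpr ⟨hwW, by rw [swap hA, hvw, neg_zero], hwu'⟩
      obtain ⟨y, hy, hyn⟩ := SetLike.not_le_iff_exists.mp hnle
      rw [mem_fix₀] at hyn
      push Not at hyn
      obtain ⟨c, hc⟩ := hyn (mem_fix₀.mp hy).1
      have hb := IH k (by omega) hI' hW' (by omega) ⟨w, hw', c, y, hy, hc⟩
      have h := even_step hA hB hI hW hne hnf hvW hu' hvu' hdim
      simp only [evenBnd]
      omega

theorem sp_even_min_degree {F : Type*} [Field F] [Fintype F] [DecidableEq F] {n : ℕ}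
    (heven : Even (Fintype.card F)) {k : ℕ}
    (ρ : Representation ℂ (Matrix.symplecticGroup (Fin n) F) (Fin k → ℂ)) (hirr : ρ.IsIrreducible)
    (hk : 2 ≤ k) :
    (Fintype.card F ^ n - 1) * (Fintype.card F ^ n - Fintype.card F) / (2 * (Fintype.card F + 1)) ≤ k := by
  haveI : CharP F 2 := ringChar.of_eq (FiniteField.even_card_iff_char_two.mpr (Nat.even_iff.mp heven))
  obtain ⟨g, hg⟩ : ∃ g, ρ g ≠ 1 := by
    by_contra h
    push Not at h
    let x : Fin k → ℂ := Pi.single ⟨0, by omega⟩ 1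
    let S : Subrepresentation ρ :=
      ⟨ℂ ∙ x, fun g v hv => by rw [h g, Module.End.one_apply]; exact hv⟩
    have h1 : Module.finrank ℂ S.toSubmodule = 1 := finrank_span_singleton (by simp [x])
    have : IsSimpleOrder (Subrepresentation ρ) := hirr
    rcases IsSimpleOrder.eq_bot_or_eq_top S with h | h <;>
      rw [show S.toSubmodule = _ from congrArg Subrepresentation.toSubmodule h] at h1
    · rw [show ((⊥ : Subrepresentation ρ).toSubmodule) = ⊥ from rfl, finrank_bot] at h1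
      exact zero_ne_one h1
    · rw [show ((⊤ : Subrepresentation ρ).toSubmodule) = ⊤ from rfl, finrank_top, Module.finrank_fin_fun] at h1
      omega
  let φ : BilinIsom (sympBilin n F) →* Module.End ℂ (Fin k → ℂ) :=
    MonoidHom.comp ρ (sympEquiv n F).symm.toMonoidHom
  have key : ∃ v ∈ (⊤ : Submodule F (Fin n ⊕ Fin n → F)), ∃ c, ∃ x ∈ (⊤ : Submodule ℂ (Fin k → ℂ)),
      φ (sympT (sympBilin_isAlt n F) v c) x ≠ x := by
    by_contra hc
    push Not at hc
    have hker : transGroup (sympBilin_isAlt n F) ≤ φ.ker := by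
      rw [transGroup, transGroupOn, Subgroup.closure_le]
      rintro _ ⟨v, -, c, rfl⟩
      exact MonoidHom.mem_ker.mpr (LinearMap.ext fun x => hc v trivial c x trivial)
    rw [transGroup_eq_top _ (sympBilin_nondegenerate n F)] at hker
    have h1 := MonoidHom.mem_ker.mp (hker (Subgroup.mem_top (sympEquiv n F g)))
    exact hg (by simpa [φ] using h1)
  have hb := even_bound (sympBilin_isAlt n F) (sympBilin_nondegenerate n F) (φ := φ) n (W := ⊤) (X := ⊤)
    (fun _ _ _ _ => trivial) (fun v _ h => (sympBilin_nondegenerate n F).1 v fun y => h y trivial)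
    (by rw [finrank_top, finrank_sympSpace]) key
  rw [finrank_top, Module.finrank_fin_fun, Nat.card_eq_fintype_card] at hb
  set q := Fintype.card F
  have hq : 1 ≤ q := Fintype.card_pos
  refine Nat.div_le_of_le_mul ?_
  have hspec := evenBnd_spec q hq n
  rcases Nat.eq_zero_or_pos n with rfl | hn
  · simp
  have h1 : q ≤ q ^ n := Nat.le_self_pow hn.ne' q
  have h2 : 1 ≤ q ^ n := Nat.one_le_pow _ _ hq
  have hm : (q + 1) * evenBnd q n ≤ (q + 1) * (2 * k) := Nat.mul_le_mul_left _ hb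
  zify [h1, h2] at hspec hm ⊢
  have hp : (q : ℤ) ^ (2 * n) = (q : ℤ) ^ n * (q : ℤ) ^ n := by rw [two_mul, pow_add]
  rw [hp] at hspec
  linarith

end Cfsg.Lib.SpMinDeg
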