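import Mathlib
import Cfsg.Agent.Known.SpMinDegree.Basic
import Cfsg.Agent.Classical.Symp.Matrix

/-! The odd Weil representation of `Sp (2 n)` over a finite field of odd characteristic. The intertwining operators of
the Schroedinger model commute with parity; dividing by the quotient of the two determinants removes the cocycle. -/

set_option autoImplicit false
set_option linter.unusedSectionVars false
set_option linter.style.haveILetI false

open Cfsg.Lib.Classical Matrix

namespace Cfsg.Lib.SpMinDeg

universe u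

variable {F : Type u} [Field F] {n : ℕ}

/-- The underlying space of the model. -/
abbrev Fn (F : Type u) (n : ℕ) : Type u := (Fin n → F) → ℂ

/-- The first half of a vector. -/
def fstH (v : Fin n ⊕ Fin n → F) : Fin n → F := fun i => v (Sum.inl i)

/-- The second half of a vector. -/
def sndH (v : Fin n ⊕ Fin n → F) : Fin n → F := fun i => v (Sum.inr i)

/-- The Heisenberg operators. -/
noncomputable def heis (ψ : AddChar F ℂ) (v : Fin n ⊕ Fin n → F) : Module.End ℂ (Fn F n) where
  toFun f x := ψ (sndH v ⬝ᵥ x + fstH v ⬝ᵥ sndH v / 2) * f (x + fstH v)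
  map_add' f g := funext fun x => by simp [mul_add]
  map_smul' c f := funext fun x => by simp; ring

theorem heis_apply (ψ : AddChar F ℂ) (v : Fin n ⊕ Fin n → F) (f : Fn F n) (x : Fin n → F) :
    heis ψ v f x = ψ (sndH v ⬝ᵥ x + fstH v ⬝ᵥ sndH v / 2) * f (x + fstH v) := rfl

theorem symp_eq (v w : Fin n ⊕ Fin n → F) :
    sympBilin n F v w = sndH v ⬝ᵥ fstH w - fstH v ⬝ᵥ sndH w := by
  rw [sympBilin_eq_sum, Finset.sum_sub_distrib]; rfl

variable (h2 : (2 : F) ≠ 0) (ψ : AddChar F ℂ)

include h2 in
theorem heis_mul (v w : Fin n ⊕ Fin n → F) :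
    heis ψ v * heis ψ w = ψ (-(sympBilin n F v w) / 2) • heis ψ (v + w) := by
  refine LinearMap.ext fun f => funext fun x => ?_
  simp only [Module.End.mul_apply, LinearMap.smul_apply, Pi.smul_apply, smul_eq_mul, heis_apply, symp_eq,
    show fstH (v + w) = fstH v + fstH w from rfl, show sndH (v + w) = sndH v + sndH w from rfl,
    dotProduct_add, add_dotProduct, ← mul_assoc, ← AddChar.map_add_eq_mul, add_assoc]
  congr 2
  rw [dotProduct_comm (sndH v) (fstH w), dotProduct_comm (sndH w) (fstH v)]
  field_simp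
  ring

theorem heis_zero : heis (n := n) ψ 0 = 1 :=
  LinearMap.ext fun f => funext fun x => by
    simp [heis_apply, show fstH (0 : Fin n ⊕ Fin n → F) = 0 from rfl, show sndH (0 : Fin n ⊕ Fin n → F) = 0 from rfl]

include h2 in
theorem heis_neg_mul (v : Fin n ⊕ Fin n → F) : heis ψ (-v) * heis ψ v = 1 := by
  rw [heis_mul h2, map_neg, LinearMap.neg_apply, sympBilin_isAlt n F v, neg_zero, neg_zero, zero_div,
    AddChar.map_zero_eq_one, one_smul, neg_add_cancel, heis_zero]

include h2 in
theorem heis_mul_neg (v : Fin n ⊕ Fin n → F) : heis ψ v * heis ψ (-v) = 1 := by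
  simpa using heis_neg_mul h2 ψ (-v)

include h2 in
theorem heis_comm (v w : Fin n ⊕ Fin n → F) :
    heis ψ v * heis ψ w = ψ (-(sympBilin n F v w)) • (heis ψ w * heis ψ v) := by
  rw [heis_mul h2, heis_mul h2, smul_smul, ← AddChar.map_add_eq_mul, add_comm w v,
    swap (sympBilin_isAlt n F) w v]
  congr 2
  field_simp
  ring

variable [Fintype F] (hψ : ψ ≠ 1)

include h2 hψ in
theorem trace_heis {v : Fin n ⊕ Fin n → F} (hv : v ≠ 0) : LinearMap.trace ℂ (Fn F n) (heis ψ v) = 0 := by
  obtain ⟨c, hc⟩ := DFunLike.ne_iff.mp hψ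
  obtain ⟨u, hu⟩ := exists_hyperbolic_partner (sympBilin_nondegenerate n F) hv
  set w := c • u
  have h := heis_comm h2 ψ w v
  rw [show -(sympBilin n F w v) = c by
    rw [map_smul, LinearMap.smul_apply, swap (sympBilin_isAlt n F) u v, hu, smul_eq_mul]; ring] at h
  have h1 : LinearMap.trace ℂ _ (heis ψ v) = ψ c * LinearMap.trace ℂ _ (heis ψ v) := by
    conv_lhs => rw [show heis ψ v = heis ψ (-w) * (heis ψ w * heis ψ v) by
      rw [← mul_assoc, heis_neg_mul h2, one_mul]]
    rw [h, mul_smul_comm, map_smul, smul_eq_mul, LinearMap.trace_mul_comm, mul_assoc, heis_mul_neg h2, mul_one]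
  by_contra h0
  exact hc (mul_right_cancel₀ h0 (by rw [AddChar.one_apply, one_mul]; exact h1.symm))

include h2 hψ in
theorem heis_indep : LinearIndependent ℂ (heis (n := n) ψ) := by
  classical
  rw [Fintype.linearIndependent_iff]
  intro c hc w
  have e := congrArg (fun T => LinearMap.trace ℂ _ (heis ψ (-w) * T)) hc
  simp only [Finset.mul_sum, mul_smul_comm, heis_mul h2, smul_smul, mul_zero, map_zero, map_sum, map_smul,
    smul_eq_mul] at e
  rw [Finset.sum_eq_single w (fun v _ hv => by
      rw [trace_heis h2 ψ hψ (fun h => hv (neg_add_eq_zero.mp h).symm), mul_zero])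
    (fun h => absurd (Finset.mem_univ _) h), neg_add_cancel, heis_zero, LinearMap.trace_one, map_neg,
    LinearMap.neg_apply, sympBilin_isAlt n F w, neg_zero, neg_zero, zero_div, AddChar.map_zero_eq_one,
    mul_one] at e
  exact (mul_eq_zero.mp e).resolve_right (Nat.cast_ne_zero.mpr Module.finrank_pos.ne')

include h2 hψ in
theorem heis_span : Submodule.span ℂ (Set.range (heis (n := n) ψ)) = ⊤ := by
  classical
  refine (heis_indep h2 ψ hψ).span_eq_top_of_card_eq_finrank ?_
  rw [Module.finrank_linearMap, Module.finrank_fintype_fun_eq_card, Fintype.card_fun, Fintype.card_fun,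
    Fintype.card_sum, pow_add]

include h2 hψ in
theorem scalar_of_commute {T : Module.End ℂ (Fn F n)} (hT : ∀ v, T * heis ψ v = heis ψ v * T) :
    ∃ c : ℂ, T = c • 1 := by
  classical
  have hmem : T ∈ Submodule.span ℂ (Set.range (heis (n := n) ψ)) := by rw [heis_span h2 ψ hψ]; trivial
  obtain ⟨c, rfl⟩ := (Submodule.mem_span_range_iff_exists_fun ℂ).mp hmem
  refine ⟨c 0, ?_⟩
  rw [Finset.sum_eq_single 0 (fun v _ hv => ?_) (fun h => absurd (Finset.mem_univ _) h), heis_zero]
  obtain ⟨d, hd⟩ := DFunLike.ne_iff.mp hψ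
  obtain ⟨u, hu⟩ := exists_hyperbolic_partner (sympBilin_nondegenerate n F) hv
  set w := (-d) • u with hw
  have hh := congrArg (fun S => S * heis ψ (-w)) (hT w)
  simp only [Finset.sum_mul, Finset.mul_sum, smul_mul_assoc, mul_smul_comm, mul_assoc, heis_mul_neg h2,
    mul_one] at hh
  simp only [← mul_assoc, heis_comm h2 ψ w, smul_mul_assoc, smul_smul] at hh
  simp only [mul_assoc, heis_mul_neg h2, mul_one] at hh
  have := Fintype.linearIndependent_iff.mp (heis_indep (n := n) h2 ψ hψ)
    (fun z => c z - c z * ψ (-(sympBilin n F w z)))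
    (by simp only [sub_smul, Finset.sum_sub_distrib, hh, sub_self]) v
  rw [show -(sympBilin n F w v) = -d by
    rw [hw, map_smul, LinearMap.smul_apply, swap (sympBilin_isAlt n F) u v, hu, smul_eq_mul]; ring] at this
  have h1 : ψ (-d) ≠ 1 := by
    rw [AddChar.map_neg_eq_inv, Ne, inv_eq_one]; exact hd
  have hc0 : c v = 0 := by
    have h2' : c v * (1 - ψ (-d)) = 0 := by linear_combination this
    exact (mul_eq_zero.mp h2').resolve_right (sub_ne_zero.mpr (Ne.symm h1))
  rw [hc0, zero_smul]

/-- Intertwining operators. -/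
def Intw (g : BilinIsom (sympBilin n F)) (M : Module.End ℂ (Fn F n)) : Prop :=
  ∀ v, M * heis ψ v = heis ψ ((g : (Fin n ⊕ Fin n → F) ≃ₗ[F] _) v) * M

theorem Intw.mul {g h : BilinIsom (sympBilin n F)} {M N : Module.End ℂ (Fn F n)} (hM : Intw ψ g M)
    (hN : Intw ψ h N) : Intw ψ (g * h) (M * N) := fun v => by
  rw [mul_assoc, hN v, ← mul_assoc, hM, mul_assoc, BilinIsom.mul_apply']

include h2 hψ in
theorem exists_intw (g : BilinIsom (sympBilin n F)) :
    ∃ M : (Module.End ℂ (Fn F n))ˣ, Intw ψ g M := by
  classical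
  let T : Module.End ℂ (Fn F n) → Module.End ℂ (Fn F n) := fun A =>
    ∑ v, heis ψ ((g : (Fin n ⊕ Fin n → F) ≃ₗ[F] _) v) * A * heis ψ (-v)
  have hT : ∀ A, Intw ψ g (T A) := fun A u => by
    simp only [T, Finset.mul_sum, Finset.sum_mul]
    refine (Fintype.sum_equiv (Equiv.addLeft u) _ _ fun v => ?_).symm
    rw [Equiv.coe_addLeft, mul_assoc _ (heis ψ (-(u + v))) (heis ψ u), heis_mul h2, ← mul_assoc,
      ← mul_assoc, heis_mul h2, ← map_add, BilinIsom.map_form, mul_smul_comm, smul_mul_assoc, smul_mul_assoc,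
      show -(u + v) + u = -v by abel]
    congr 2
    rw [swap (sympBilin_isAlt n F) u v, map_neg, LinearMap.neg_apply, map_add, LinearMap.add_apply,
      sympBilin_isAlt n F u, zero_add]
  have hex : ∃ A, T A ≠ 0 := by
    by_contra h
    push Not at h
    obtain ⟨x₀⟩ : Nonempty (Fin n → F) := inferInstance
    let z : Fn F n := Pi.single x₀ 1
    have h0 : ∀ (y : Fn F n) (i : Fin n → F),
        ∑ v, (heis ψ ((g : (Fin n ⊕ Fin n → F) ≃ₗ[F] _) v) z x₀) * (heis ψ (-v) y i) = 0 := fun y i => by
      have := congrFun (LinearMap.congr_fun (h ((LinearMap.proj i).smulRight z)) y) x₀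
      simp only [T, LinearMap.sum_apply, Module.End.mul_apply, LinearMap.smulRight_apply, map_smul,
        Finset.sum_apply, Pi.smul_apply, smul_eq_mul, LinearMap.zero_apply, Pi.zero_apply,
        LinearMap.proj_apply] at this
      rw [← this]
      exact Finset.sum_congr rfl fun v _ => mul_comm _ _
    have h1 : ∑ v, (heis ψ ((g : (Fin n ⊕ Fin n → F) ≃ₗ[F] _) (-v)) z x₀) • heis ψ v = 0 :=
      LinearMap.ext fun y => funext fun i => by
        rw [← Fintype.sum_equiv (Equiv.neg _) _ _ fun v => rfl]
        simp only [Equiv.neg_apply, neg_neg, LinearMap.sum_apply, LinearMap.smul_apply, Finset.sum_apply,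
          Pi.smul_apply, smul_eq_mul, LinearMap.zero_apply, Pi.zero_apply]
        exact h0 y i
    have := Fintype.linearIndependent_iff.mp (heis_indep (n := n) h2 ψ hψ) _ h1 0
    rw [neg_zero, map_zero, heis_zero, Module.End.one_apply] at this
    simp [z] at this
  obtain ⟨A, hA⟩ := hex
  have hinj : LinearMap.ker (T A) = ⊥ := by
    by_contra hk
    obtain ⟨x, hx, hx0⟩ := Submodule.exists_mem_ne_zero_of_ne_bot hk
    have hall : ∀ R : Module.End ℂ (Fn F n), ∀ y ∈ LinearMap.ker (T A), R y ∈ LinearMap.ker (T A) := by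
      intro R
      have hR : R ∈ Submodule.span ℂ (Set.range (heis (n := n) ψ)) := by rw [heis_span h2 ψ hψ]; trivial
      induction hR using Submodule.span_induction with
      | mem R hR =>
        obtain ⟨v, rfl⟩ := hR
        intro y hy
        rw [LinearMap.mem_ker] at hy ⊢
        rw [← Module.End.mul_apply, hT A v, Module.End.mul_apply, hy, map_zero]
      | zero => intro y _; simp
      | add a b _ _ ha hb =>
        intro y hy; rw [LinearMap.add_apply]; exact Submodule.add_mem _ (ha y hy) (hb y hy)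
      | smul c a _ ha => intro y hy; rw [LinearMap.smul_apply]; exact Submodule.smul_mem _ c (ha y hy)
    obtain ⟨i, hi⟩ := Function.ne_iff.mp hx0
    refine hA (LinearMap.ext fun y => ?_)
    have := hall ((LinearMap.proj i).smulRight y) x hx
    rw [LinearMap.mem_ker, LinearMap.smulRight_apply, LinearMap.proj_apply, map_smul] at this
    exact (smul_eq_zero.mp this).resolve_left hi
  have hu : IsUnit (T A) := (LinearMap.isUnit_iff_ker_eq_bot _).mpr hinj
  exact ⟨hu.unit, hT A⟩

include h2 hψ in
theorem intw_unique {g : BilinIsom (sympBilin n F)} {M : (Module.End ℂ (Fn F n))ˣ} {N : Module.End ℂ (Fn F n)}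
    (hM : Intw ψ g M) (hN : Intw ψ g N) :
    ∃ c : ℂ, N = c • (M : Module.End ℂ (Fn F n)) := by
  obtain ⟨c, hc⟩ := scalar_of_commute h2 ψ hψ (T := (↑M⁻¹ : Module.End ℂ (Fn F n)) * N) fun v => by
    rw [mul_assoc, hN v, Units.inv_mul_eq_iff_eq_mul, ← mul_assoc, ← mul_assoc, hM v, mul_assoc _ _ (↑M⁻¹ : Module.End ℂ (Fn F n)),
      Units.mul_inv, mul_one]
  refine ⟨c, ?_⟩
  rw [← one_mul N, ← Units.mul_inv M, mul_assoc, hc, mul_smul_comm, mul_one]

/-- Parity. -/
def par : Module.End ℂ (Fn F n) := LinearMap.funLeft ℂ ℂ (fun x : Fin n → F => -x)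

theorem par_apply (f : Fn F n) (x : Fin n → F) : par f x = f (-x) := rfl

theorem par_sq : par * par = (1 : Module.End ℂ (Fn F n)) :=
  LinearMap.ext fun f => funext fun x => by simp [par_apply]

theorem par_heis (v : Fin n ⊕ Fin n → F) : par * heis ψ v = heis ψ (-v) * par := by
  refine LinearMap.ext fun f => funext fun x => ?_
  simp only [Module.End.mul_apply, par_apply, heis_apply, show fstH (-v) = -fstH v from rfl,
    show sndH (-v) = -sndH v from rfl, neg_dotProduct_neg, neg_add_rev, neg_neg, add_comm (fstH v) (-x)]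
  simp only [neg_dotProduct, dotProduct_neg]

include h2 in
theorem trace_par : LinearMap.trace ℂ (Fn F n) par = 1 := by
  classical
  rw [LinearMap.trace_eq_matrix_trace ℂ (Pi.basisFun ℂ (Fin n → F)), Matrix.trace]
  simp only [Matrix.diag_apply, LinearMap.toMatrix_apply, Pi.basisFun_repr, Pi.basisFun_apply, par_apply]
  rw [Finset.sum_eq_single (0 : Fin n → F)]
  · simp
  · intro x _ hx
    refine Pi.single_eq_of_ne (fun e => hx (funext fun i => ?_)) _
    have hi : (2 : F) * x i = 0 := by
      have := congrFun e i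
      simp only [Pi.neg_apply] at this
      linear_combination -this
    exact (mul_eq_zero.mp hi).resolve_left h2
  · simp

include h2 hψ in
theorem intw_par {g : BilinIsom (sympBilin n F)} {M : (Module.End ℂ (Fn F n))ˣ} (hM : Intw ψ g M) :
    par * (M : Module.End ℂ (Fn F n)) = (M : Module.End ℂ (Fn F n)) * par := by
  have hN : Intw ψ g (par * (M : Module.End ℂ (Fn F n)) * par) := fun v => by
    rw [mul_assoc, par_heis, ← mul_assoc, mul_assoc par _ (heis ψ (-v)), hM, ← mul_assoc par, par_heis,
      map_neg, neg_neg]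
    simp only [mul_assoc]
  obtain ⟨c, hc⟩ := intw_unique h2 ψ hψ hM hN
  have e1 : par * (M : Module.End ℂ (Fn F n)) = c • ((M : Module.End ℂ (Fn F n)) * par) := by
    rw [← smul_mul_assoc, ← hc, mul_assoc _ par par, par_sq, mul_one]
  have htr : LinearMap.trace ℂ (Fn F n) ((↑M⁻¹ : Module.End ℂ (Fn F n)) * (par * (M : Module.End ℂ (Fn F n)))) = 1 := by
    rw [LinearMap.trace_mul_comm, mul_assoc, Units.mul_inv, mul_one, trace_par h2]
  rw [e1, mul_smul_comm, map_smul, ← mul_assoc, Units.inv_mul, one_mul, trace_par h2, smul_eq_mul,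
    mul_one] at htr
  rw [e1, htr, one_smul]

/-- The even and the odd functions. -/
def parEig (F : Type u) [Field F] (n : ℕ) (ε : ℂ) : Submodule ℂ (Fn F n) :=
  LinearMap.ker (par - ε • (1 : Module.End ℂ (Fn F n)))

theorem mem_parEig {ε : ℂ} {f : Fn F n} : f ∈ parEig F n ε ↔ par f = ε • f := by
  simp [parEig, sub_eq_zero]

include h2 in
theorem finrank_parEig {ε : ℂ} (hε : ε * ε = 1) :
    2 * (Module.finrank ℂ (parEig F n ε) : ℂ) = (Fintype.card F : ℂ) ^ n + ε := by
  classical
  let e : Module.End ℂ (Fn F n) := (2 : ℂ)⁻¹ • (1 + ε • par)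
  have hPP : (ε • par) * (ε • par) = (1 : Module.End ℂ (Fn F n)) := by
    rw [smul_mul_smul_comm, hε, par_sq, one_smul]
  have hpe : par * e = ε • e := by
    have h : par * (1 + ε • par) = ε • (1 + ε • par : Module.End ℂ (Fn F n)) := by
      rw [mul_add, mul_one, mul_smul_comm, par_sq, smul_add, smul_smul, hε, one_smul, add_comm]
    rw [mul_smul_comm, h, smul_comm]
  have he : IsIdempotentElem e := by
    change e * e = e
    simp only [e, smul_mul_smul_comm, mul_add, add_mul, one_mul, mul_one, hPP]
    module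
  have hr : LinearMap.range e = parEig F n ε := by
    ext f
    rw [mem_parEig]
    constructor
    · rintro ⟨g, rfl⟩
      rw [← Module.End.mul_apply, ← LinearMap.smul_apply, hpe]
    · intro hf
      exact ⟨f, by
        simp only [e, LinearMap.smul_apply, LinearMap.add_apply, Module.End.one_apply, hf, smul_smul, hε,
          one_smul]
        module⟩
  have h := LinearMap.IsProj.trace ((LinearMap.isProj_range_iff_isIdempotentElem _).2 he)
  rw [hr] at h
  rw [← h]
  simp only [e, map_smul, map_add, trace_par h2, LinearMap.trace_one, Module.finrank_fintype_fun_eq_card,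
    Fintype.card_fun, Fintype.card_fin, Nat.cast_pow, smul_eq_mul]
  ring

/-- The operators commuting with parity. -/
def parCent (F : Type u) [Field F] (n : ℕ) : Submonoid (Module.End ℂ (Fn F n)) :=
  Submonoid.centralizer {par}

theorem mem_parCent {T : Module.End ℂ (Fn F n)} : T ∈ parCent F n ↔ par * T = T * par := by
  simp [parCent, Submonoid.mem_centralizer_iff]

/-- Restriction to the even or odd functions. -/
def resEig (ε : ℂ) : parCent F n →* Module.End ℂ (parEig F n ε) where
  toFun T := (T : Module.End ℂ (Fn F n)).restrict fun f (hf : f ∈ parEig F n ε) => by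
    rw [mem_parEig] at hf ⊢
    rw [← Module.End.mul_apply, mem_parCent.mp T.2, Module.End.mul_apply, hf, map_smul]
  map_one' := LinearMap.ext fun f => Subtype.ext rfl
  map_mul' S T := LinearMap.ext fun f => Subtype.ext rfl

theorem resEig_apply (ε : ℂ) (T : parCent F n) (f : parEig F n ε) :
    (resEig ε T f : Fn F n) = (T : Module.End ℂ (Fn F n)) f := rfl

include h2 in
theorem exists_weil (hψ : ψ ≠ 1) : ∃ (ρ : BilinIsom (sympBilin n F) →* Module.End ℂ (parEig F n (-1))),
    ∀ (g : BilinIsom (sympBilin n F)) (N : Module.End ℂ (Fn F n)), Intw ψ g N →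
      ∃ c : ℂ, ∀ f : parEig F n (-1), N (f : Fn F n) = c • (ρ g f : Fn F n) := by
  classical
  choose P hP using exists_intw h2 ψ hψ (n := n)
  let Q : BilinIsom (sympBilin n F) → parCent F n := fun g =>
    ⟨P g, mem_parCent.mpr (intw_par h2 ψ hψ (hP g))⟩
  let dlt : parCent F n → ℂ := fun T => LinearMap.det (resEig (-1) T) / LinearMap.det (resEig 1 T)
  have hcard : Module.finrank ℂ (parEig F n 1) = Module.finrank ℂ (parEig F n (-1)) + 1 := by
    have h1 := finrank_parEig (F := F) (n := n) h2 (ε := 1) (by norm_num)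
    have h3 := finrank_parEig (F := F) (n := n) h2 (ε := -1) (by norm_num)
    have : (Module.finrank ℂ (parEig F n 1) : ℂ) = ((Module.finrank ℂ (parEig F n (-1)) + 1 : ℕ) : ℂ) := by
      push_cast
      linear_combination (h1 - h3) / 2
    exact_mod_cast this
  have hdet : ∀ (ε : ℂ) g, LinearMap.det (resEig ε (Q g)) ≠ 0 := fun ε g => by
    let Qi : parCent F n := ⟨↑(P g)⁻¹, by
      rw [mem_parCent, Units.eq_inv_mul_iff_mul_eq, ← mul_assoc, ← intw_par h2 ψ hψ (hP g), mul_assoc,
        Units.mul_inv, mul_one]⟩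
    have h1 : Q g * Qi = 1 := Subtype.ext (Units.mul_inv _)
    have h := congrArg (fun T => LinearMap.det (resEig ε T)) h1
    simp only [map_mul, map_one] at h
    exact fun e => by rw [e, zero_mul] at h; exact zero_ne_one h
  have hdlt0 : ∀ g, dlt (Q g) ≠ 0 := fun g => div_ne_zero (hdet _ g) (hdet _ g)
  have hsm : ∀ (ε c : ℂ) (S T : parCent F n), (S : Module.End ℂ (Fn F n)) = c • (T : Module.End ℂ (Fn F n)) →
      resEig ε S = c • resEig ε T := fun ε c S T h => LinearMap.ext fun f => Subtype.ext (by
        simp [resEig_apply, h])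
  have key : ∀ (c : ℂ) (S : parCent F n) (g : BilinIsom (sympBilin n F)), c ≠ 0 →
      (S : Module.End ℂ (Fn F n)) = c • (Q g : Module.End ℂ (Fn F n)) →
      dlt S • resEig (-1) S = dlt (Q g) • resEig (-1) (Q g) := by
    intro c S g hc h
    simp only [dlt, hsm _ c S (Q g) h, LinearMap.det_smul, hcard, pow_succ, smul_smul]
    congr 1
    have := hdet 1 g
    field_simp
  let R : BilinIsom (sympBilin n F) → Module.End ℂ (parEig F n (-1)) := fun g => dlt (Q g) • resEig (-1) (Q g)
  have hdm : ∀ S T, dlt (S * T) = dlt S * dlt T := fun S T => by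
    simp only [dlt, map_mul, div_mul_div_comm]
  have hmul : ∀ g h, R (g * h) = R g * R h := fun g h => by
    obtain ⟨c, hc⟩ := intw_unique h2 ψ hψ (hP (g * h)) ((hP g).mul ψ (hP h))
    have hc0 : c ≠ 0 := fun e => by
      rw [e, zero_smul] at hc
      exact (P g * P h).ne_zero (by rw [Units.val_mul]; exact hc)
    have := key c (Q g * Q h) (g * h) hc0 hc
    rw [hdm, map_mul] at this
    change dlt (Q (g * h)) • resEig (-1) (Q (g * h)) = _
    rw [← this, mul_smul_mul_comm]
  have hone : R 1 = 1 := by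
    obtain ⟨c, hc⟩ := intw_unique h2 ψ hψ (hP 1) (N := 1) (fun v => by simp [BilinIsom.one_apply'])
    have hc0 : c ≠ 0 := fun e => by rw [e, zero_smul] at hc; exact one_ne_zero hc
    have := key c 1 1 hc0 hc
    simp only [dlt, map_one, div_one, one_smul] at this
    exact this.symm
  refine ⟨{ toFun := R, map_one' := hone, map_mul' := hmul }, fun g N hN => ?_⟩
  obtain ⟨c, hc⟩ := intw_unique h2 ψ hψ (hP g) hN
  refine ⟨c / dlt (Q g), fun f => ?_⟩
  change N (f : Fn F n) = (c / dlt (Q g)) • ((dlt (Q g) • resEig (-1) (Q g)) f : Fn F n)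
  rw [LinearMap.smul_apply, Submodule.coe_smul, smul_smul, div_mul_cancel₀ _ (hdlt0 g), resEig_apply, hc,
    LinearMap.smul_apply]

include h2 in
/-- Multiplication by `ψ (c x_i x_j)` intertwines a short root element. -/
theorem intw_quad (i j : Fin n) (c : F) (h : sympBilin n F (Pi.single (Sum.inr i) 1) (Pi.single (Sum.inr j) 1) = 0) :
    Intw ψ (srt (sympBilin_isAlt n F) h c)
      (LinearMap.pi fun x => ψ (c * x i * x j) • LinearMap.proj x) := by
  classical
  intro v
  refine LinearMap.ext fun f => funext fun x => ?_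
  set v' := (srt (sympBilin_isAlt n F) h c).1 v
    with hv'
  have e1 : fstH v' = fstH v := funext fun k => by
    simp [hv', srt_apply, fstH]
  have e2 : sndH v' = sndH v - (c * fstH v j) • Pi.single i 1 - (c * fstH v i) • Pi.single j 1 :=
    funext fun k => by
      simp [hv', srt_apply, sndH, fstH, symp_eq, dotProduct, Pi.single_apply]
      ring
  simp only [Module.End.mul_apply, LinearMap.pi_apply, LinearMap.smul_apply, LinearMap.proj_apply,
    smul_eq_mul, heis_apply, ← mul_assoc, ← AddChar.map_add_eq_mul, e1, e2, Pi.add_apply]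
  congr 2
  simp only [sub_dotProduct, dotProduct_sub, smul_dotProduct, dotProduct_smul, single_dotProduct,
    dotProduct_single, smul_eq_mul, one_mul, mul_one]
  field_simp
  ring

/-- Substituting a transvection intertwines a short root element. -/
theorem intw_subst {i j : Fin n} (hij : i ≠ j)
    (h : sympBilin n F (Pi.single (Sum.inl j) 1) (Pi.single (Sum.inr i) 1) = 0) :
    Intw ψ (srt (sympBilin_isAlt n F) h 1)
      (LinearMap.funLeft ℂ ℂ fun x : Fin n → F => x + x i • Pi.single j 1) := by
  classical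
  intro v
  refine LinearMap.ext fun f => funext fun x => ?_
  set v' := (srt (sympBilin_isAlt n F) h 1).1 v
    with hv'
  have e1 : fstH v' = fstH v - fstH v i • Pi.single j 1 := funext fun k => by
    simp [hv', srt_apply, sndH, fstH, symp_eq, dotProduct, Pi.single_apply, sub_eq_add_neg]
  have e2 : sndH v' = sndH v + sndH v j • Pi.single i 1 := funext fun k => by
    simp [hv', srt_apply, sndH, fstH, symp_eq, dotProduct, Pi.single_apply]
  have e3 : fstH v' i = fstH v i := by rw [e1]; simp [hij]
  simp only [Module.End.mul_apply, LinearMap.funLeft_apply, heis_apply]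
  congr 2
  · rw [e1, e2]
    simp only [sub_dotProduct, add_dotProduct, dotProduct_add, dotProduct_smul, smul_dotProduct,
      single_dotProduct, dotProduct_single, smul_eq_mul, one_mul, mul_one, Pi.single_eq_of_ne hij,
      Pi.single_eq_of_ne hij.symm, mul_zero, add_zero, sub_zero, Pi.sub_apply, Pi.smul_apply]
    ring
  · rw [Pi.add_apply, e3, add_smul, e1]
    abel

include h2 in
theorem weil_no_fixed (hn : 2 ≤ n) (hψ : ψ ≠ 1)
    (ρ : BilinIsom (sympBilin n F) →* Module.End ℂ (parEig F n (-1)))
    (hρ : ∀ (g : BilinIsom (sympBilin n F)) (N : Module.End ℂ (Fn F n)), Intw ψ g N →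
      ∃ c : ℂ, ∀ f : parEig F n (-1), N (f : Fn F n) = c • (ρ g f : Fn F n))
    (f : parEig F n (-1)) (hf : ∀ g, ρ g f = f) : f = 0 := by
  classical
  by_contra hf0
  obtain ⟨x, hx⟩ := Function.ne_iff.mp fun e => hf0 (Subtype.ext e)
  rw [ZeroMemClass.coe_zero, Pi.zero_apply] at hx
  have hodd := congrFun (mem_parEig.mp f.2)
  have hprim := AddChar.IsPrimitive.of_ne_one hψ
  have key : ∀ y, (f : Fn F n) y ≠ 0 → ∀ i j, x i * x j = y i * y j := by
    intro y hy i j
    have hb : sympBilin n F (Pi.single (Sum.inr i) 1) (Pi.single (Sum.inr j) 1) = 0 := by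
      simp [symp_eq, fstH, sndH, dotProduct]
    refine AddChar.to_mulShift_inj_of_isPrimitive hprim (DFunLike.ext _ _ fun c => ?_)
    obtain ⟨d, hd⟩ := hρ _ _ (intw_quad h2 ψ i j c hb)
    have e := hd f
    rw [hf] at e
    have e1 := congrFun e x
    have e2 := congrFun e y
    simp only [LinearMap.pi_apply, LinearMap.smul_apply, LinearMap.proj_apply, smul_eq_mul,
      Pi.smul_apply] at e1 e2
    rw [AddChar.mulShift_apply, AddChar.mulShift_apply, mul_comm _ c, mul_comm _ c, ← mul_assoc, ← mul_assoc,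
      mul_right_cancel₀ hx e1, mul_right_cancel₀ hy e2]
  obtain ⟨i, hi⟩ : ∃ i, x i ≠ 0 := by
    by_contra h
    push Not at h
    have h0 := hodd x
    rw [par_apply, show x = 0 from funext h, neg_zero, Pi.smul_apply, smul_eq_mul] at h0
    rw [show x = 0 from funext h] at hx
    exact hx (by linear_combination h0 / 2)
  obtain ⟨j, hij⟩ : ∃ j, i ≠ j := by
    haveI : Nontrivial (Fin n) := Fin.nontrivial_iff_two_le.mpr hn
    exact (exists_ne i).imp fun j hj => hj.symm
  have hb : sympBilin n F (Pi.single (Sum.inl j) 1) (Pi.single (Sum.inr i) 1) = 0 := by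
    simp [symp_eq, fstH, sndH, dotProduct, Pi.single_apply, hij]
  obtain ⟨d, hd⟩ := hρ _ _ (intw_subst ψ hij hb)
  have e := hd f
  rw [hf] at e
  have ex := congrFun e (x - x i • Pi.single j 1)
  simp only [LinearMap.funLeft_apply, Pi.smul_apply, smul_eq_mul] at ex
  rw [show x - x i • Pi.single j 1 + (x - x i • Pi.single j 1 : Fin n → F) i • Pi.single j 1 = x by
    simp [hij]] at ex
  set y := x - x i • Pi.single j 1 with hy
  have hy0 : (f : Fn F n) y ≠ 0 := fun h => hx (by rw [ex, h, mul_zero])
  have hyi : y i = x i := by simp [hy, hij]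
  have := key y hy0 i j
  rw [hyi] at this
  have hyj := mul_left_cancel₀ hi this
  simp [hy] at hyj
  exact hi (by linear_combination hyj)

end Cfsg.Lib.SpMinDeg
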