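import Mathlib
import Cfsg.Agent.Known.SpMinDegree.Bound
import Cfsg.Agent.Known.SpMinDegree.Weil

/-! The smallest degree of a non-linear irreducible representation of `Sp (2 n)`, odd characteristic. -/

set_option autoImplicit false
set_option linter.unusedSectionVars false
set_option linter.style.haveILetI false

open Cfsg.Lib.Classical Matrix

namespace Cfsg.Lib.SpMinDeg

variable {F : Type*} [Field F] [Fintype F] {n : ℕ}

theorem two_ne (hodd : Odd (Fintype.card F)) : (2 : F) ≠ 0 := by
  intro h
  have hc : ringChar F = 2 :=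
    ((Nat.dvd_prime Nat.prime_two).mp (ringChar.dvd (by exact_mod_cast h))).resolve_left
      (CharP.ringChar_ne_one)
  exact Nat.not_even_iff_odd.mpr hodd ((FiniteField.even_card_iff_char_two.mp hc) |> Nat.even_iff.mpr)

theorem moved_bound (hn : 1 ≤ n) (hodd : Odd (Fintype.card F)) {M : Type*} [AddCommGroup M] [Module ℂ M]
    [FiniteDimensional ℂ M] (φ : BilinIsom (sympBilin n F) →* Module.End ℂ M) (X : Submodule ℂ M)
    (hX : ∀ g, ∀ x ∈ X, φ g x ∈ X) {g : BilinIsom (sympBilin n F)} {x : M} (hx : x ∈ X) (hg : φ g x ≠ x) :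
    Fintype.card F ^ n ≤ 2 * Module.finrank ℂ X + 1 := by
  rw [← Nat.card_eq_fintype_card]
  refine bound (hA := sympBilin_isAlt n F) (φ := φ) (sympBilin_nondegenerate n F) (two_ne hodd)
    (by rw [Nat.card_eq_fintype_card]; exact hodd) n (W := ⊤) (X := X) (fun g _ => hX g)
    (fun v _ h => (sympBilin_nondegenerate n F).1 v fun y => h y trivial)
    (by rw [finrank_top, finrank_sympSpace]) hn ?_
  by_contra hc
  push Not at hc
  have hall : ∀ t, ∀ y ∈ X, φ t y = y := by
    intro t
    have ht : t ∈ transGroup (sympBilin_isAlt n F) := by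
      rw [transGroup_eq_top _ (sympBilin_nondegenerate n F)]; trivial
    induction ht using Subgroup.closure_induction with
    | mem t ht => obtain ⟨v, -, c, rfl⟩ := ht; exact hc v trivial c
    | one => intro y _; rw [map_one, Module.End.one_apply]
    | mul a b _ _ ha hb => intro y hy; rw [map_mul, Module.End.mul_apply, hb y hy, ha y hy]
    | inv a _ ha => intro y hy; conv_lhs => rw [← ha y hy]
                    exact phi_inv_apply a y
  exact hg (hall g x hx)

theorem sp_min_degree (hn : 1 ≤ n) (hodd : Odd (Fintype.card F)) [DecidableEq F] {k : ℕ}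
    (ρ : Representation ℂ (Matrix.symplecticGroup (Fin n) F) (Fin k → ℂ)) (hirr : ρ.IsIrreducible)
    (hk : 2 ≤ k) : (Fintype.card F ^ n - 1) / 2 ≤ k := by
  obtain ⟨g, hg⟩ : ∃ g, ρ g ≠ 1 := by
    by_contra h
    push Not at h
    let x : Fin k → ℂ := Pi.single ⟨0, by omega⟩ 1
    let S : Subrepresentation ρ :=
      ⟨ℂ ∙ x, fun g v hv => by rw [h g, Module.End.one_apply]; exact hv⟩
    have h1 : Module.finrank ℂ S.toSubmodule = 1 := finrank_span_singleton (by simp [x])
    have : IsSimpleOrder (Subrepresentation ρ) := hirr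
    rcases IsSimpleOrder.eq_bot_or_eq_top S with h | h <;>
      rw [show S.toSubmodule = _ from congrArg Subrepresentation.toSubmodule h] at h1
    · rw [show ((⊥ : Subrepresentation ρ).toSubmodule) = ⊥ from rfl, finrank_bot] at h1
      exact zero_ne_one h1
    · rw [show ((⊤ : Subrepresentation ρ).toSubmodule) = ⊤ from rfl, finrank_top, Module.finrank_fin_fun] at h1
      omega
  let φ : BilinIsom (sympBilin n F) →* Module.End ℂ (Fin k → ℂ) :=
    MonoidHom.comp ρ (sympEquiv n F).symm.toMonoidHom
  obtain ⟨x, hx⟩ : ∃ x, ρ g x ≠ x := by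
    by_contra h
    push Not at h
    exact hg (LinearMap.ext h)
  have := moved_bound hn hodd φ ⊤ (fun _ _ _ => trivial) (g := sympEquiv n F g) (x := x) trivial
    (by simpa [φ] using hx)
  rw [finrank_top, Module.finrank_fin_fun] at this
  omega

theorem exists_weil_irreducible [DecidableEq F] (hn : 2 ≤ n) (hodd : Odd (Fintype.card F)) :
    ∃ ρ : Representation ℂ (Matrix.symplecticGroup (Fin n) F) (Fin ((Fintype.card F ^ n - 1) / 2) → ℂ),
      ρ.IsIrreducible := by
  classical
  have h2 := two_ne hodd
  obtain ⟨ψ, hψ⟩ := exists_ne_one F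
  obtain ⟨R, hR⟩ := exists_weil (n := n) h2 ψ hψ
  set d := (Fintype.card F ^ n - 1) / 2 with hd
  have hdim : 2 * Module.finrank ℂ (parEig F n (-1)) + 1 = Fintype.card F ^ n := by
    have h := finrank_parEig (F := F) (n := n) h2 (ε := -1) (by norm_num)
    have h' : ((2 * Module.finrank ℂ (parEig F n (-1)) + 1 : ℕ) : ℂ) = ((Fintype.card F ^ n : ℕ) : ℂ) := by
      push_cast; linear_combination h
    exact_mod_cast h'
  let e : parEig F n (-1) ≃ₗ[ℂ] (Fin d → ℂ) :=
    LinearEquiv.ofFinrankEq _ _ (by rw [Module.finrank_fin_fun]; omega)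
  let ρ : Representation ℂ (Matrix.symplecticGroup (Fin n) F) (Fin d → ℂ) :=
    { toFun := fun g => e.conj (R (sympEquiv n F g))
      map_one' := by simp [LinearEquiv.conj_apply, Module.End.one_eq_id]
      map_mul' := fun a b => LinearMap.ext fun x => by simp [LinearEquiv.conj_apply] }
  let φ : BilinIsom (sympBilin n F) →* Module.End ℂ (Fin d → ℂ) :=
    MonoidHom.comp ρ (sympEquiv n F).symm.toMonoidHom
  have hφ : ∀ g x, φ g (e x) = e (R g x) := fun g x => by
    simp [φ, ρ, LinearEquiv.conj_apply]
  have hnofix : ∀ x : Fin d → ℂ, (∀ g, φ g x = x) → x = 0 := by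
    intro x hx
    have : e.symm x = 0 := weil_no_fixed h2 ψ hn hψ R hR _ fun g => e.injective (by
      rw [← hφ, e.apply_symm_apply, hx])
    simpa using congrArg e this
  have hq : 3 ≤ Fintype.card F := by
    have := Fintype.one_lt_card (α := F)
    obtain ⟨j, hj⟩ := hodd
    omega
  have hd0 : 0 < d := by
    have : Fintype.card F ^ 1 ≤ Fintype.card F ^ n := Nat.pow_le_pow_right (by omega) (by omega)
    rw [pow_one] at this
    omega
  haveI : Nontrivial (Subrepresentation ρ) := ⟨⟨⊥, ⊤, fun h => by
    have h' : (⊥ : Submodule ℂ (Fin d → ℂ)) = ⊤ := congrArg Subrepresentation.toSubmodule h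
    have := congrArg (fun S : Submodule ℂ (Fin d → ℂ) => Module.finrank ℂ S) h'
    simp only [finrank_bot, finrank_top, Module.finrank_fin_fun] at this
    omega⟩⟩
  refine ⟨ρ, ⟨fun S => ?_⟩⟩
  by_cases hS : ∀ g : BilinIsom (sympBilin n F), ∀ x ∈ S.toSubmodule, φ g x = x
  · left
    refine Subrepresentation.toSubmodule_injective ((Submodule.eq_bot_iff _).mpr fun x hx => ?_)
    exact hnofix x fun g => hS g x hx
  · right
    push Not at hS
    obtain ⟨g, x, hx, hg⟩ := hS
    have h := moved_bound (by omega : 1 ≤ n) hodd φ S.toSubmodule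
      (fun g y hy => S.apply_mem_toSubmodule ((sympEquiv n F).symm g) hy) hx hg
    refine Subrepresentation.toSubmodule_injective (Submodule.eq_top_of_finrank_eq ?_)
    rw [Module.finrank_fin_fun]
    have := Submodule.finrank_le S.toSubmodule
    rw [Module.finrank_fin_fun] at this
    omega

end Cfsg.Lib.SpMinDeg
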